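import Mathlib
import Groth.Agent.AssField.Basic
import Groth.Agent.CAlgGeomIrr.Basic

/-!
Tensor products with a primary field extension: zero divisors are nilpotent, and the resulting injectivity
on modules of finite length.
-/

set_option autoImplicit false
set_option linter.all false
set_option synthInstance.maxHeartbeats 100000
noncomputable section

universe u

open TensorProduct IsLocalRing

namespace Groth.Agent.FlatFamily

/-- In `k' ⊗ K`, `K/k` primary, a zero divisor is nilpotent. -/
theorem isNilpotent_of_mul_eq_zero {k K : Type u} [Field k] [Field K] [Algebra k K]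
    (h : ∀ α : K, IsSeparable k α → α ∈ Set.range (algebraMap k K)) (k' : Type u) [Field k'] [Algebra k k']
    {s z : k' ⊗[k] K} (hsz : s * z = 0) (hz : z ≠ 0) : IsNilpotent s := by
  obtain ⟨P, hP, hsP, hPd⟩ := Ideal.exists_le_prime_disjoint (Ideal.span {s}) (nonZeroDivisors (k' ⊗[k] K))
    (Set.disjoint_left.2 fun y hy hy' => hz (by
      obtain ⟨c, rfl⟩ := Ideal.mem_span_singleton'.1 hy
      exact (mul_right_mem_nonZeroDivisors_eq_zero_iff hy').1 (by linear_combination c * hsz)))
  haveI := hP
  have hmin := (AssField.minimal_of_zeroDivisors (P := P) fun x hx hx' => Set.disjoint_left.1 hPd hx hx').1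
  have hirr := CAlgGeomIrr.irreducible_of_forall h k'
  rw [PrimeSpectrum.irreducibleSpace_iff_isPrime_nilradical] at hirr
  exact mem_nilradical.1 (hmin.2 ⟨hirr, bot_le⟩ (nilradical_le_prime P) (hsP (Ideal.mem_span_singleton_self s)))

/-- Zero divisors of `k' ⊗_A K` are nilpotent if `K` is primary over the residue field of `A`. -/
theorem tensorRegular {A K : Type u} [CommRing A] [IsLocalRing A] [Field K] [Algebra A K]
    [Algebra (ResidueField A) K] [IsScalarTower A (ResidueField A) K]
    (h : ∀ α : K, IsSeparable (ResidueField A) α → α ∈ Set.range (algebraMap (ResidueField A) K))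
    (k' : Type u) [Field k'] [Algebra A k'] (hk : ∀ a ∈ maximalIdeal A, algebraMap A k' a = 0)
    (s z : k' ⊗[A] K) (hsz : s * z = 0) (hz : z ≠ 0) : IsNilpotent s := by
  letI : Algebra (ResidueField A) k' := (Ideal.Quotient.lift (maximalIdeal A) (algebraMap A k') hk).toAlgebra
  haveI : IsScalarTower A (ResidueField A) k' := .of_algebraMap_eq fun a => rfl
  haveI : TensorProduct.CompatibleSMul A (ResidueField A) k' K := ⟨fun r m n => by
    obtain ⟨r, rfl⟩ := Ideal.Quotient.mk_surjective r
    rw [show (Ideal.Quotient.mk (maximalIdeal A) r : ResidueField A) = algebraMap A (ResidueField A) r from rfl,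
      algebraMap_smul, algebraMap_smul, TensorProduct.smul_tmul]⟩
  let e := Algebra.TensorProduct.equivOfCompatibleSMul A (ResidueField A) (ResidueField A) k' K
  have h1 := isNilpotent_of_mul_eq_zero h k' (s := e.symm s) (z := e.symm z)
    (by rw [← map_mul, hsz, map_zero]) (fun h0 => hz (e.symm.injective (h0.trans (map_zero _).symm)))
  simpa using h1.map e

/-- The action of `k' ⊗ B` on `k' ⊗ U`. -/
def act {A B : Type u} [CommRing A] [CommRing B] [Algebra A B] (k' : Type u) [CommRing k'] [Algebra A k']
    (U : Type u) [AddCommGroup U] [Module A U] [Module B U] [IsScalarTower A B U] :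
    k' ⊗[A] B →ₗ[A] (k' ⊗[A] U) →ₗ[A] (k' ⊗[A] U) :=
  (TensorProduct.homTensorHomMap (RingHom.id A) k' U k' U).comp
    (TensorProduct.map (LinearMap.mul A k') (Algebra.lsmul A A U (A := B)).toLinearMap)

section

variable {A B : Type u} [CommRing A] [CommRing B] [Algebra A B] (k' : Type u) [CommRing k'] [Algebra A k']
  {U V : Type u} [AddCommGroup U] [Module A U] [Module B U] [IsScalarTower A B U]
  [AddCommGroup V] [Module A V] [Module B V] [IsScalarTower A B V]

@[simp] theorem act_tmul (a : k') (b : B) (c : k') (x : U) : act k' U (a ⊗ₜ[A] b) (c ⊗ₜ[A] x) = (a * c) ⊗ₜ[A] (b • x) := rfl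

theorem act_natural (f : U →ₗ[A] V) (hf : ∀ (b : B) (x : U), f (b • x) = b • f x) (s : k' ⊗[A] B) (z : k' ⊗[A] U) :
    f.lTensor k' (act k' U s z) = act k' V s (f.lTensor k' z) := by
  induction s using TensorProduct.induction_on with
  | zero => simp
  | add s s' h h' => simp only [map_add, LinearMap.add_apply, h, h']
  | tmul a b =>
    induction z using TensorProduct.induction_on with
    | zero => simp
    | add z z' h h' => simp only [map_add, h, h']
    | tmul c x => simp [hf]

theorem act_algebra {C : Type u} [CommRing C] [Algebra A C] [Algebra B C] [IsScalarTower A B C] (s : k' ⊗[A] B)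
    (z : k' ⊗[A] C) :
    act k' C s z = Algebra.TensorProduct.map (AlgHom.id A k') (IsScalarTower.toAlgHom A B C) s * z := by
  induction s using TensorProduct.induction_on with
  | zero => simp
  | add s s' h h' => simp only [map_add, LinearMap.add_apply, h, h', add_mul]
  | tmul a b =>
    induction z using TensorProduct.induction_on with
    | zero => simp
    | add z z' h h' => simp only [map_add, h, h', mul_add]
    | tmul c x => simp [Algebra.smul_def]

end

variable {A B : Type u} [CommRing A] [IsLocalRing A] [CommRing B] [Algebra A B] (R : Type u) [CommRing R]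
  [IsLocalRing R] [Algebra A R] [Algebra B R] [IsScalarTower A B R]

set_option maxHeartbeats 1000000 in
/-- An element regular on `k' ⊗ κ` acts injectively on `k' ⊗ U` for `U` killed by a power of the maximal ideal. -/
theorem act_injective (k' : Type u) [Field k'] [Algebra A k'] (s : k' ⊗[A] B)
    (hs : ∀ z : k' ⊗[A] ResidueField R, act k' (ResidueField R) s z = 0 → z = 0) :
    ∀ (N : ℕ) (U : Type u) [AddCommGroup U] [Module R U] [Module A U] [Module B U] [IsScalarTower A B U]
      [IsScalarTower B R U] [IsScalarTower A R U],
      (∀ a ∈ maximalIdeal A, ∀ x : U, a • x = 0) → maximalIdeal R ^ N • (⊤ : Submodule R U) = ⊥ →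
      ∀ z : k' ⊗[A] U, act k' U s z = 0 → z = 0 := by
  intro N
  induction N with
  | zero =>
    intro U _ _ _ _ _ _ _ _ h0 z _
    rw [pow_zero, Ideal.one_eq_top, Submodule.top_smul] at h0
    haveI : Subsingleton U := (Submodule.subsingleton_iff R).1 (subsingleton_of_bot_eq_top h0.symm)
    exact Subsingleton.elim _ _
  | succ N ih =>
    intro U _ _ _ _ _ _ _ hA hN z hz
    let U' : Submodule R U := maximalIdeal R • ⊤
    let Q := U ⧸ U'
    let f : U' →ₗ[A] U := U'.subtype.restrictScalars A
    let g : U →ₗ[A] Q := U'.mkQ.restrictScalars A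
    have hgz : g.lTensor k' z = 0 := by
      letI : Module (ResidueField R) Q := Module.IsTorsionBySet.module
        (Module.isTorsionBySet_quotient_ideal_smul U (maximalIdeal R))
      haveI : IsScalarTower R (ResidueField R) Q := Module.IsTorsionBySet.isScalarTower _
      let e := (Module.Free.chooseBasis (ResidueField R) Q).repr.restrictScalars R
      let e' : Q ≃ₗ[A] _ := e.restrictScalars A
      have h1 : act k' _ s (e'.toLinearMap.lTensor k' (g.lTensor k' z)) = 0 := by
        rw [← act_natural k' e'.toLinearMap (fun b x => e.toLinearMap.map_smul_of_tower b x),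
          ← act_natural k' g (fun b x => U'.mkQ.map_smul_of_tower b x), hz, map_zero, map_zero]
      have h2 : TensorProduct.finsuppRight A A k' (ResidueField R) _ (e'.toLinearMap.lTensor k' (g.lTensor k' z)) = 0 := by
        ext l
        refine hs _ ?_
        have h3 : ∀ w, TensorProduct.finsuppRight A A k' (ResidueField R) _ w l =
            (Finsupp.lapply (R := A) l).lTensor k' w := fun w => TensorProduct.finsuppRight_apply w l
        rw [h3, ← act_natural k' (Finsupp.lapply (R := A) l) (fun b x => rfl), h1, map_zero]
      refine (LinearEquiv.lTensor k' e').injective ?_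
      rw [map_zero]
      exact (LinearEquiv.map_eq_zero_iff _).1 h2
    obtain ⟨y, rfl⟩ := (_root_.lTensor_exact k' (f := f) (g := g) (fun x => by
      show U'.mkQ x = 0 ↔ x ∈ Set.range U'.subtype
      rw [Submodule.mkQ_apply, Submodule.Quotient.mk_eq_zero]
      exact ⟨fun h => ⟨⟨x, h⟩, rfl⟩, fun ⟨y, hy⟩ => hy ▸ y.2⟩) (Submodule.mkQ_surjective U') z).1 hgz
    have hN' : maximalIdeal R ^ N • (⊤ : Submodule R U') = ⊥ := by
      refine Submodule.map_injective_of_injective U'.injective_subtype ?_
      rw [Submodule.map_smul'', Submodule.map_top, Submodule.range_subtype, Submodule.map_bot]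
      show maximalIdeal R ^ N • (maximalIdeal R • (⊤ : Submodule R U)) = ⊥
      rw [← mul_smul, ← pow_succ, hN]
    -- the inclusion splits over the residue field of `A`
    letI mU : Module (ResidueField A) U := Module.IsTorsionBySet.module
      (show Module.IsTorsionBySet A U (maximalIdeal A) from fun x a => hA a a.2 x)
    haveI : IsScalarTower A (ResidueField A) U := Module.IsTorsionBySet.isScalarTower _
    have hA' : ∀ a ∈ maximalIdeal A, ∀ x : U', a • x = 0 := fun a ha x => Subtype.ext (hA a ha x)
    letI mU' : Module (ResidueField A) U' := Module.IsTorsionBySet.module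
      (show Module.IsTorsionBySet A U' (maximalIdeal A) from fun x a => hA' a a.2 x)
    haveI : IsScalarTower A (ResidueField A) U' := Module.IsTorsionBySet.isScalarTower _
    obtain ⟨r, hr⟩ := (LinearMap.extendScalarsOfSurjective (S := ResidueField A) Ideal.Quotient.mk_surjective f).exists_leftInverse_of_injective
      (LinearMap.ker_eq_bot.2 Subtype.val_injective)
    have hinj : Function.Injective (f.lTensor k') := by
      refine Function.LeftInverse.injective (g := (r.restrictScalars A).lTensor k') fun w => ?_
      rw [← LinearMap.comp_apply, ← LinearMap.lTensor_comp,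
        show (r.restrictScalars A).comp f = LinearMap.id from LinearMap.ext fun x => LinearMap.congr_fun hr x,
        LinearMap.lTensor_id, LinearMap.id_apply]
    rw [← act_natural k' f (fun b x => U'.subtype.map_smul_of_tower b x)] at hz
    rw [ih U' hA' hN' y (hinj (hz.trans (map_zero _).symm)), map_zero]

end Groth.Agent.FlatFamily
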