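import Mathlib
import Groth.Agent.FlatLocus.Module
import Groth.Agent.FlatCrit.Basic
import Groth.Agent.FlatFamily.Primary

/-!
Flatness over an Artinian local ring read on a jointly injective family of local algebras.
-/

set_option autoImplicit false
set_option linter.all false
set_option backward.isDefEq.respectTransparency false
set_option synthInstance.maxHeartbeats 100000
noncomputable section

universe u

open TensorProduct IsLocalRing

namespace Groth.Agent.FlatFamily

/-- Vectors that are independent modulo the maximal ideal, as seen by a family of maps to flat modules,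
are independent for that family. -/
theorem eq_zero_of_flat_family {A' : Type u} [CommRing A'] [IsLocalRing A'] {W : Type u} [AddCommGroup W] [Module A' W]
    {K : Type u} (N : K → Type u) [∀ k, AddCommGroup (N k)] [∀ k, Module A' (N k)] [∀ k, Module.Flat A' (N k)]
    (φ : ∀ k, W →ₗ[A'] N k) {ι : Type u} (s : Finset ι) : ∀ (x : ι → W),
    (∀ b : ι → A', (∀ k, φ k (∑ j ∈ s, b j • x j) ∈ maximalIdeal A' • (⊤ : Submodule A' (N k))) →
      ∀ j ∈ s, b j ∈ maximalIdeal A') →
    ∀ a : ι → A', (∀ k, φ k (∑ j ∈ s, a j • x j) = 0) → ∀ j ∈ s, a j = 0 := by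
  classical
  induction s using Finset.induction with
  | empty => intro x _ a _ j hj; exact absurd hj (Finset.notMem_empty j)
  | insert n s hn ih =>
    intro x h a ha
    obtain ⟨k, hk⟩ : ∃ k, φ k (x n) ∉ maximalIdeal A' • (⊤ : Submodule A' (N k)) := by
      by_contra hc
      push Not at hc
      have h1 := h (Pi.single n 1) (fun k => by
        rw [Finset.sum_eq_single_of_mem n (Finset.mem_insert_self n s) (fun j _ hj => by simp [hj])]
        simpa using hc k) n (Finset.mem_insert_self n s)
      rw [Pi.single_eq_same] at h1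
      exact (maximalIdeal.isMaximal A').ne_top ((Ideal.eq_top_iff_one _).2 h1)
    have hrel : ∑ j : ↥(insert n s), a j • φ k (x j) = 0 := by
      rw [Finset.sum_coe_sort _ (fun j => a j • φ k (x j))]
      simpa [map_sum, map_smul] using ha k
    obtain ⟨l, m, y, hmy, hm⟩ := Module.Flat.isTrivialRelation_of_sum_smul_eq_zero hrel
    let n' : ↥(insert n s) := ⟨n, Finset.mem_insert_self ..⟩
    obtain ⟨i, hi⟩ : ∃ i, IsUnit (m n' i) := by
      by_contra hc
      push Not at hc
      refine hk ?_
      rw [show φ k (x n) = _ from hmy n']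
      exact sum_mem fun i _ => Submodule.smul_mem_smul (hc i) trivial
    let m' : ι → A' := fun j => if hj : j ∈ insert n s then m ⟨j, hj⟩ i else 0
    let c : ι → A' := fun j => -(m' j) * hi.unit⁻¹
    have hm' : ∑ j ∈ insert n s, a j * m' j = 0 := by
      rw [← Finset.sum_coe_sort]
      refine Eq.trans (Finset.sum_congr rfl fun j _ => ?_) (hm i)
      simp only [m', dif_pos j.2]
    have han : a n = ∑ j ∈ s, a j * c j := by
      rw [Finset.sum_insert hn] at hm'
      have hu : m' n = (hi.unit : A') := by simp [m', n']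
      have h2 : ∑ j ∈ s, a j * c j = -(∑ j ∈ s, a j * m' j) * ↑hi.unit⁻¹ := by
        rw [← Finset.sum_neg_distrib, Finset.sum_mul]
        refine Finset.sum_congr rfl fun j _ => ?_
        simp only [c]; ring
      rw [h2, show -(∑ j ∈ s, a j * m' j) = a n * m' n by linear_combination -hm', hu, mul_assoc, Units.mul_inv, mul_one]
    let x' : ι → W := fun j => x j + c j • x n
    have hexp : ∀ b : ι → A', ∑ j ∈ s, b j • x' j = (∑ j ∈ s, b j • x j) + (∑ j ∈ s, b j * c j) • x n := fun b => by
      simp only [x', smul_add, Finset.sum_add_distrib, smul_smul, Finset.sum_smul]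
    have hs : ∀ j ∈ s, a j = 0 := by
      refine ih x' (fun b hb j hj => ?_) a (fun k' => ?_)
      · let b' : ι → A' := fun j => if j = n then ∑ j ∈ s, b j * c j else b j
        have hb' := h b' (fun k' => ?_) j (Finset.mem_insert_of_mem hj)
        · simpa [b', ne_of_mem_of_not_mem hj hn] using hb'
        · convert hb k' using 2
          rw [hexp, Finset.sum_insert hn, add_comm]
          congr 1
          · refine Finset.sum_congr rfl fun j hj => ?_
            simp [b', ne_of_mem_of_not_mem hj hn]
          · simp [b']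
      · rw [hexp, ← han, add_comm, ← Finset.sum_insert hn (f := fun j => a j • x j)]
        exact ha k'
    intro j hj
    rcases Finset.mem_insert.1 hj with rfl | hj
    · rw [han]; exact Finset.sum_eq_zero fun i hi => by rw [hs i hi, zero_mul]
    · exact hs j hj

variable {A B : Type u} [CommRing A] [CommRing B] [Algebra A B] {M : Type u} [AddCommGroup M] [Module B M] [Module A M]
  [IsScalarTower A B M]

/-- Membership in `I • M_Q` clears a denominator. -/
theorem exists_smul_mem_of_mk_mem {C : Type u} [CommRing C] {P : Type u} [AddCommGroup P] [Module C P]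
    (I : Ideal C) (Q : Ideal C) [Q.IsPrime] (z : P)
    (h : LocalizedModule.mk z 1 ∈ I • (⊤ : Submodule C (LocalizedModule Q.primeCompl P))) :
    ∃ t ∉ Q, t • z ∈ I • (⊤ : Submodule C P) := by
  let G : Submodule C (LocalizedModule Q.primeCompl P) :=
    { carrier := {w | ∃ (m : P) (t : Q.primeCompl), m ∈ I • (⊤ : Submodule C P) ∧ w = LocalizedModule.mk m t}
      zero_mem' := ⟨0, 1, zero_mem _, (LocalizedModule.zero_mk 1).symm⟩
      add_mem' := by
        rintro _ _ ⟨m, t, hm, rfl⟩ ⟨m', t', hm', rfl⟩
        exact ⟨_, _, add_mem (Submodule.smul_mem _ (t' : C) hm) (Submodule.smul_mem _ (t : C) hm'), LocalizedModule.mk_add_mk⟩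
      smul_mem' := by
        rintro r _ ⟨m, t, hm, rfl⟩
        exact ⟨r • m, t, Submodule.smul_mem _ r hm, LocalizedModule.smul'_mk ..⟩ }
  obtain ⟨m, t, hm, he⟩ := (show _ ≤ G from Submodule.smul_le.2 fun r hr w _ => by
    induction w using LocalizedModule.induction_on with
    | h w t => exact ⟨r • w, t, Submodule.smul_mem_smul hr trivial, LocalizedModule.smul'_mk ..⟩) h
  obtain ⟨t', ht'⟩ := LocalizedModule.mk_eq.1 he
  refine ⟨(t' : C) * t, (t' * t).2, ?_⟩
  rw [mul_smul, show (t' : C) • ((t : C) • _) = t' • t • _ from rfl, ht', one_smul]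
  exact Submodule.smul_mem _ (t' : C) hm

/-- Zero divisors of the tensor products of residue extensions with `κ(q)` are nilpotent. -/
def PrimaryTensor (A : Type u) [CommRing A] [IsLocalRing A] (B : Type u) [CommRing B] [Algebra A B] (q : Ideal B)
    [q.IsPrime] : Prop :=
  ∀ (k' : Type u) [Field k'] [Algebra A k'], (∀ a ∈ maximalIdeal A, algebraMap A k' a = 0) →
    ∀ s z : k' ⊗[A] q.ResidueField, s * z = 0 → z ≠ 0 → IsNilpotent s

set_option maxHeartbeats 1000000 in
/-- Independence modulo the maximal ideal survives a base change, seen near `q`. -/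
theorem mem_maximalIdeal_of_base_change [IsLocalRing A] [IsNoetherianRing B] [Module.Finite B M]
    (q : Ideal B) [q.IsPrime] (hq : q.comap (algebraMap A B) = maximalIdeal A)
    {ι : Type u} (s : Finset ι) (v : ι → M)
    (hv : ∀ β : ι → A, LocalizedModule.mk (∑ j ∈ s, β j • v j) 1 ∈
      ((maximalIdeal A).map (algebraMap A B)) • (⊤ : Submodule B (LocalizedModule q.primeCompl M)) →
      ∀ j ∈ s, β j ∈ maximalIdeal A)
    (A' B' : Type u) [CommRing A'] [IsLocalRing A'] [CommRing B'] [Algebra A A'] [Algebra A' B'] [Algebra B B'] [Algebra A B']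
    [IsScalarTower A A' B'] [IsScalarTower A B B'] [IsLocalHom (algebraMap A A')] [Algebra.IsPushout A A' B B']
    (b : ι → A')
    (hb : (∀ (Q : Ideal B') [Q.IsPrime], Q.comap (algebraMap B B') = q → Q.comap (algebraMap A' B') = maximalIdeal A' →
      LocalizedModule.mk (∑ j ∈ s, algebraMap A' B' (b j) • ((1 : B') ⊗ₜ[B] v j)) 1 ∈
        ((maximalIdeal A').map (algebraMap A' B')) • (⊤ : Submodule B' (LocalizedModule Q.primeCompl (B' ⊗[B] M)))) ∨
      (PrimaryTensor A B q ∧ ∃ (Q : Ideal B') (_ : Q.IsPrime), Q.comap (algebraMap B B') = q ∧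
        Q.comap (algebraMap A' B') = maximalIdeal A' ∧
        LocalizedModule.mk (∑ j ∈ s, algebraMap A' B' (b j) • ((1 : B') ⊗ₜ[B] v j)) 1 ∈
          ((maximalIdeal A').map (algebraMap A' B')) • (⊤ : Submodule B' (LocalizedModule Q.primeCompl (B' ⊗[B] M))))) :
    ∀ j ∈ s, b j ∈ maximalIdeal A' := by
  classical
  let R := Localization.AtPrime q
  let Mq := LocalizedModule q.primeCompl M
  let k := A ⧸ maximalIdeal A
  letI : Field k := Ideal.Quotient.field _
  let k' := A' ⧸ maximalIdeal A'
  letI : Field k' := Ideal.Quotient.field _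
  letI : Algebra k k' := (Ideal.quotientMap (maximalIdeal A') (algebraMap A A') (fun a ha => map_nonunit (algebraMap A A') a ha)).toAlgebra
  haveI : IsScalarTower A k k' := .of_algebraMap_eq fun a => rfl
  -- the coordinates of the residues over `k`
  let e := Module.Free.chooseBasis k k'
  let β : ι → Module.Free.ChooseBasisIndex k k' → A := fun j l =>
    Function.surjInv Ideal.Quotient.mk_surjective (e.repr (Ideal.Quotient.mk _ (b j)) l)
  have hβ : ∀ j l, Ideal.Quotient.mk (maximalIdeal A) (β j l) = e.repr (Ideal.Quotient.mk _ (b j)) l :=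
    fun j l => Function.surjInv_eq _ _
  suffices key : ∀ l, LocalizedModule.mk (∑ j ∈ s, β j l • v j) 1 ∈
      ((maximalIdeal A).map (algebraMap A B)) • (⊤ : Submodule B Mq) by
    intro j hj
    have h0 : ∀ l, e.repr (Ideal.Quotient.mk (maximalIdeal A') (b j)) l = 0 := fun l => by
      rw [← hβ]; exact Ideal.Quotient.eq_zero_iff_mem.2 (hv (fun j => β j l) (key l) j hj)
    refine Ideal.Quotient.eq_zero_iff_mem.1 (e.repr.injective ?_)
    rw [map_zero]; exact Finsupp.ext h0
  intro l
  -- reduce modulo powers of `q`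
  let J : Ideal B := (maximalIdeal A).map (algebraMap A B)
  suffices hN : ∀ N : ℕ, LocalizedModule.mk (∑ j ∈ s, β j l • v j) 1 ∈ (J ⊔ q ^ N) • (⊤ : Submodule B Mq) by
    haveI : IsNoetherianRing R := IsLocalization.isNoetherianRing q.primeCompl R inferInstance
    haveI : Module.Finite R Mq := Module.Finite.of_isLocalizedModule q.primeCompl (LocalizedModule.mkLinearMap _ _)
    have hres : ∀ (I : Ideal B) (z : Mq), z ∈ I • (⊤ : Submodule B Mq) → z ∈ (I.map (algebraMap B R)) • (⊤ : Submodule R Mq) := by
      intro I z hz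
      refine Submodule.smul_induction_on hz (fun b hb m _ => ?_) fun a c ha hc => add_mem ha hc
      rw [← algebraMap_smul R b m]
      exact Submodule.smul_mem_smul (Ideal.mem_map_of_mem _ hb) trivial
    let P := (J.map (algebraMap B R)) • (⊤ : Submodule R Mq)
    have h0 : Submodule.mkQ P (LocalizedModule.mk (∑ j ∈ s, β j l • v j) 1) ∈
        (⨅ N : ℕ, (q.map (algebraMap B R)) ^ N • (⊤ : Submodule R (Mq ⧸ P))) := by
      refine Submodule.mem_iInf _ |>.2 fun N => ?_
      have h1 := hres _ _ (hN N)
      rw [Ideal.map_sup, Submodule.sup_smul, Submodule.mem_sup] at h1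
      obtain ⟨p, hp, r, hr, hpr⟩ := h1
      rw [← hpr, map_add, show Submodule.mkQ P p = 0 from (Submodule.Quotient.mk_eq_zero _).2 hp, zero_add, ← Ideal.map_pow]
      have h2 := Submodule.mem_map_of_mem (f := Submodule.mkQ P) hr
      rwa [Submodule.map_smul'', Submodule.map_top, Submodule.range_mkQ] at h2
    have hne : q.map (algebraMap B R) ≠ ⊤ := by
      rw [Localization.AtPrime.map_eq_maximalIdeal]; exact (maximalIdeal.isMaximal R).ne_top
    replace h0 := (Ideal.iInf_pow_smul_eq_bot_of_isLocalRing (R := R) (M := Mq ⧸ P) (I := q.map (algebraMap B R)) hne).le h0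
    rw [Submodule.mem_bot, Submodule.mkQ_apply, Submodule.Quotient.mk_eq_zero] at h0
    refine Submodule.smul_induction_on h0 (fun r hr m _ => ?_) fun a c ha hc => add_mem ha hc
    induction hr using Submodule.span_induction generalizing m with
    | mem x hx =>
      obtain ⟨b0, hb0, rfl⟩ := hx
      rw [algebraMap_smul]
      exact Submodule.smul_mem_smul hb0 trivial
    | zero => simp
    | add x y _ _ hx hy => rw [add_smul]; exact add_mem (hx m trivial) (hy m trivial)
    | smul a x _ hx => rw [smul_eq_mul, mul_comm, mul_smul]; exact hx (a • m) trivial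
  intro N
  let U := Mq ⧸ ((J ⊔ q ^ N) • (⊤ : Submodule B Mq))
  let π : M →ₗ[B] U := (Submodule.mkQ _).comp (LocalizedModule.mkLinearMap q.primeCompl M)
  let T := B' ⊗[B] U
  let u : B' ⊗[B] M →ₗ[B'] T := π.baseChange B'
  let m'T : Submodule B' T := ((maximalIdeal A').map (algebraMap A' B')) • ⊤
  let z : T := ∑ j ∈ s, algebraMap A' B' (b j) • ((1 : B') ⊗ₜ[B] π (v j))
  have hkill : ∀ c : B, c ∈ J ⊔ q ^ N → ∀ w : U, c • w = 0 := fun c hc w => by
    obtain ⟨w, rfl⟩ := Submodule.mkQ_surjective _ w
    rw [← map_smul]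
    exact (Submodule.Quotient.mk_eq_zero _).2 (Submodule.smul_mem_smul hc trivial)
  -- compare with `k' ⊗ U`
  let L : T →ₗ[A'] k' ⊗[A] U :=
    (TensorProduct.AlgebraTensorModule.map ((Ideal.Quotient.mkₐ A' (maximalIdeal A')).toLinearMap) (LinearMap.id : U →ₗ[A] U)).comp (Algebra.IsPushout.cancelBaseChange A A' B B' U).toLinearMap
  have hLm : ∀ y ∈ m'T, L y = 0 := fun y hy => by
    refine Submodule.smul_induction_on hy (fun r hr m _ => ?_) fun a c ha hc => by rw [map_add, ha, hc, add_zero]
    induction hr using Submodule.span_induction generalizing m with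
    | mem x hx =>
      obtain ⟨a, ha, rfl⟩ := hx
      rw [algebraMap_smul, map_smul]
      generalize L m = w
      induction w using TensorProduct.induction_on with
      | zero => simp
      | tmul r w =>
        rw [TensorProduct.smul_tmul', show a • r = 0 by
          rw [← algebraMap_smul k' a r, Ideal.Quotient.algebraMap_eq, Ideal.Quotient.eq_zero_iff_mem.2 ha, zero_smul],
          TensorProduct.zero_tmul]
      | add w w' hw hw' => rw [smul_add, hw, hw', add_zero]
    | zero => simp
    | add x y _ _ hx hy => rw [add_smul, map_add, hx m trivial, hy m trivial, add_zero]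
    | smul r x _ hx => rw [smul_eq_mul, mul_comm, mul_smul]; exact hx (r • m) trivial
  have hTm : ∀ (t : B'), t • (∑ j ∈ s, algebraMap A' B' (b j) • ((1 : B') ⊗ₜ[B] v j)) ∈
      ((maximalIdeal A').map (algebraMap A' B')) • (⊤ : Submodule B' (B' ⊗[B] M)) → t • z ∈ m'T := fun t htz => by
    have h2 := Submodule.mem_map_of_mem (f := u) htz
    rw [Submodule.map_smul''] at h2
    have h3 : u (t • ∑ j ∈ s, algebraMap A' B' (b j) • ((1 : B') ⊗ₜ[B] v j)) = t • z := by
      simp only [map_smul, map_sum, u, z]
      congr 1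
    rw [h3] at h2
    exact Submodule.smul_mono le_rfl le_top h2
  have hU0 : ∀ a ∈ maximalIdeal A, ∀ w : U, a • w = 0 := fun a ha w => by
    rw [← algebraMap_smul B a w]
    exact hkill _ (Submodule.mem_sup_left (Ideal.mem_map_of_mem _ ha)) w
  have hL0 : L z = 0 := by
    rcases hb with hb | ⟨hP, Q, hQ, hQq, hQm, hmk⟩
    · refine hLm z ?_
      suffices hz : z ∈ m'T from hz
      have hunit : ∀ c ∉ q, ∀ w : T, ∃ w' : T, algebraMap B B' c • w' = w := by
        intro c hc w
        induction w using TensorProduct.induction_on with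
        | zero => exact ⟨0, smul_zero _⟩
        | tmul b0 w =>
          obtain ⟨w, rfl⟩ := Submodule.mkQ_surjective _ w
          obtain ⟨w', rfl⟩ := ((Module.End.isUnit_iff _).1 (IsLocalizedModule.map_units
            (LocalizedModule.mkLinearMap q.primeCompl M) ⟨c, show c ∈ q.primeCompl from hc⟩)).2 w
          refine ⟨b0 ⊗ₜ[B] Submodule.mkQ _ w', ?_⟩
          rw [algebraMap_smul, ← TensorProduct.tmul_smul, ← map_smul]
          rfl
        | add a a' ha ha' =>
          obtain ⟨r, hr⟩ := ha; obtain ⟨r', hr'⟩ := ha'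
          exact ⟨r + r', by rw [smul_add, hr, hr']⟩
      have hz : z ∈ m'T := by
        by_contra hz
        let I : Ideal B' := (m'T).comap (LinearMap.toSpanSingleton B' T z)
        have hI : ∀ y, y ∈ I ↔ y • z ∈ m'T := fun y => Iff.rfl
        let Sm : Submonoid B' := Algebra.algebraMapSubmonoid B' q.primeCompl
        obtain ⟨Q, hQ, hIQ, hQd⟩ := Ideal.exists_le_prime_disjoint I Sm (Set.disjoint_left.2 (by
          rintro _ h1 ⟨c, hc, rfl⟩
          refine hz ?_
          rw [SetLike.mem_coe, hI] at h1
          have hall : ∀ y ∈ m'T, ∃ y' ∈ m'T, algebraMap B B' c • y' = y := by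
            intro y hy
            refine Submodule.smul_induction_on hy (fun r hr m _ => ?_) fun a a' ha ha' => ?_
            · obtain ⟨m', rfl⟩ := hunit c hc m
              exact ⟨r • m', Submodule.smul_mem_smul hr trivial, smul_comm _ _ _⟩
            · obtain ⟨r, hr, rfl⟩ := ha; obtain ⟨r', hr', rfl⟩ := ha'
              exact ⟨r + r', add_mem hr hr', smul_add _ _ _⟩
          obtain ⟨y', hy', hyz⟩ := hall _ h1
          have hinj : ∀ w : T, algebraMap B B' c • w = 0 → w = 0 := by
            obtain ⟨c', hc'⟩ : ∃ g : U →ₗ[B] U, ∀ w, g (c • w) = w := by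
              have hu := (Module.End.isUnit_iff _).1 (IsLocalizedModule.map_units
                (LocalizedModule.mkLinearMap q.primeCompl M) ⟨c, show c ∈ q.primeCompl from hc⟩)
              let g : Mq →ₗ[B] Mq := (LinearEquiv.ofBijective _ hu).symm.toLinearMap
              have hg : ∀ w, g (c • w) = w := fun w => (LinearEquiv.ofBijective _ hu).symm_apply_apply w
              refine ⟨Submodule.mapQ _ _ g (Submodule.map_le_iff_le_comap.1 (by
                rw [Submodule.map_smul'']; exact Submodule.smul_mono le_rfl le_top)), fun w => ?_⟩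
              obtain ⟨w, rfl⟩ := Submodule.mkQ_surjective _ w
              rw [← map_smul]
              exact congrArg (Submodule.mkQ _) (hg w)
            intro w hw
            have hg : (c'.baseChange B') (algebraMap B B' c • w) = w := by
              clear hw
              induction w using TensorProduct.induction_on with
              | zero => simp
              | tmul b0 w => rw [algebraMap_smul, ← TensorProduct.tmul_smul, LinearMap.baseChange_tmul, hc']
              | add a a' ha ha' => rw [smul_add, map_add, ha, ha']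
            rw [hw, map_zero] at hg
            exact hg.symm
          rw [show z = y' from sub_eq_zero.1 (hinj _ (by rw [smul_sub, hyz]; exact sub_self _))]
          exact hy'))
        haveI := hQ
        have hQm : Q.comap (algebraMap A' B') = maximalIdeal A' := by
          refine ((maximalIdeal.isMaximal A').eq_of_le (Ideal.IsPrime.ne_top inferInstance) fun a ha => hIQ ?_).symm
          rw [hI]
          exact Submodule.smul_mem_smul (Ideal.mem_map_of_mem _ ha) trivial
        have hQq : Q.comap (algebraMap B B') = q := by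
          refine le_antisymm (fun c hc => ?_) fun c hc => ?_
          · by_contra hcq
            exact Set.disjoint_left.1 hQd hc ⟨c, hcq, rfl⟩
          · refine Ideal.IsPrime.mem_of_pow_mem hQ N ?_
            rw [← map_pow]
            refine hIQ ((hI _).2 ?_)
            rw [Finset.smul_sum]
            refine sum_mem fun j _ => ?_
            have h7 : algebraMap B B' (c ^ N) • ((1 : B') ⊗ₜ[B] π (v j)) = 0 := by
              rw [algebraMap_smul, ← TensorProduct.tmul_smul,
                hkill _ (Submodule.mem_sup_right (Ideal.pow_mem_pow hc N)), TensorProduct.tmul_zero]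
            rw [smul_comm, h7, smul_zero]
            exact zero_mem _
        obtain ⟨t, ht, htz⟩ := exists_smul_mem_of_mk_mem _ Q _ (hb Q hQq hQm)
        refine ht (hIQ ((hI t).2 ?_))
        exact hTm t htz
      exact hz
    · obtain ⟨t, ht, htz⟩ := exists_smul_mem_of_mk_mem _ Q _ hmk
      let κ := Q.ResidueField
      have hker : ∀ a ∈ maximalIdeal A', algebraMap A' κ a = 0 := fun a ha => by
        rw [IsScalarTower.algebraMap_apply A' B' κ, Ideal.algebraMap_residueField_eq_zero]
        exact hQm.ge ha
      let φ1 : k' →ₐ[A] κ := (Ideal.Quotient.liftₐ (maximalIdeal A') (Algebra.ofId A' κ) hker).restrictScalars A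
      let φ2 : q.ResidueField →+* κ := Ideal.ResidueField.map q Q (algebraMap B B') hQq.symm
      have hφ2 : ∀ c : B, φ2 (algebraMap B q.ResidueField c) = algebraMap B' κ (algebraMap B B' c) := fun c =>
        Ideal.ResidueField.map_algebraMap ..
      let φ2' : q.ResidueField →ₐ[A] κ := AlgHom.mk φ2 (fun a => by
        show φ2 (algebraMap A q.ResidueField a) = _
        rw [IsScalarTower.algebraMap_apply A B q.ResidueField, hφ2, ← IsScalarTower.algebraMap_apply A B B',
          ← IsScalarTower.algebraMap_apply A B' κ])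
      let ψ : k' ⊗[A] q.ResidueField →ₐ[A] κ := Algebra.TensorProduct.lift φ1 φ2' fun _ _ => Commute.all _ _
      let sb : k' ⊗[A] B →ₐ[A] k' ⊗[A] q.ResidueField :=
        Algebra.TensorProduct.map (AlgHom.id A k') (IsScalarTower.toAlgHom A B q.ResidueField)
      have hLB : ∀ (c : B) (w : T), L (algebraMap B B' c • w) = act k' U ((1 : k') ⊗ₜ[A] c) (L w) := by
        have hL1 : ∀ y : U, L ((1 : B') ⊗ₜ[B] y) = (1 : k') ⊗ₜ[A] y := fun y => by
          show (TensorProduct.AlgebraTensorModule.map _ _) ((Algebra.IsPushout.cancelBaseChange A A' B B' U) _) = _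
          rw [Algebra.IsPushout.cancelBaseChange_tmul]; rfl
        intro c w
        obtain ⟨w, rfl⟩ := (Algebra.IsPushout.cancelBaseChange A A' B B' U).symm.surjective w
        induction w using TensorProduct.induction_on with
        | zero => simp
        | add w w' hw hw' => simp only [map_add, smul_add, hw, hw']
        | tmul a y =>
          have h4 : ∀ y : U, (Algebra.IsPushout.cancelBaseChange A A' B B' U).symm (a ⊗ₜ[A] y) = a • ((1 : B') ⊗ₜ[B] y) := fun y => by
            rw [LinearEquiv.symm_apply_eq, map_smul, Algebra.IsPushout.cancelBaseChange_tmul, TensorProduct.smul_tmul',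
              smul_eq_mul, mul_one]
          rw [h4, smul_comm, algebraMap_smul, ← TensorProduct.tmul_smul, map_smul, map_smul, hL1, hL1,
            TensorProduct.smul_tmul', TensorProduct.smul_tmul', act_tmul, one_mul]
      have hex : ∀ y : B', ∃ σ : k' ⊗[A] B, (∀ w : T, L (y • w) = act k' U σ (L w)) ∧ ψ (sb σ) = algebraMap B' κ y := by
        intro y
        induction y using (Algebra.IsPushout.out (R := A) (S := A') (R' := B) (S' := B')).inductionOn with
        | zero => exact ⟨0, fun w => by simp, by simp⟩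
        | tmul c =>
          refine ⟨(1 : k') ⊗ₜ[A] c, hLB c, ?_⟩
          simp [sb, ψ, φ2', hφ2]
        | smul a y hy =>
          obtain ⟨σ, h1, h2⟩ := hy
          refine ⟨a • σ, fun w => ?_, ?_⟩
          · rw [smul_assoc, map_smul, h1]
            generalize L w = r
            clear h1 h2
            induction σ using TensorProduct.induction_on with
            | zero => simp
            | add σ σ' hσ hσ' =>
              simp only [smul_add, map_add, LinearMap.add_apply]
              exact congrArg₂ (· + ·) hσ hσ'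
            | tmul a' c =>
              induction r using TensorProduct.induction_on with
              | zero => simp
              | add r r' hr hr' => simp only [map_add, smul_add, hr, hr']
              | tmul a'' x => rw [TensorProduct.smul_tmul' a a' c, act_tmul, act_tmul, TensorProduct.smul_tmul', smul_mul_assoc]
          · have h5 : a • σ = (algebraMap A' k' a ⊗ₜ[A] (1 : B)) * σ := by
              rw [← Algebra.TensorProduct.algebraMap_apply, ← Algebra.smul_def]
            rw [h5, map_mul, map_mul, h2, Algebra.smul_def a y, map_mul, ← IsScalarTower.algebraMap_apply A' B' κ]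
            congr 1
            simp [sb, ψ, φ1]
        | add y y' hy hy' =>
          obtain ⟨σ, h1, h2⟩ := hy; obtain ⟨σ', h1', h2'⟩ := hy'
          exact ⟨σ + σ', fun w => by rw [add_smul, map_add, map_add, LinearMap.add_apply, h1, h1'],
            by rw [map_add, map_add, map_add, h2, h2']⟩
      obtain ⟨σ, hσ, hσψ⟩ := hex t
      have hreg : ∀ r : k' ⊗[A] q.ResidueField, act k' q.ResidueField σ r = 0 → r = 0 := fun r hr => by
        by_contra hr0
        rw [act_algebra] at hr
        have hk : ∀ a ∈ maximalIdeal A, algebraMap A k' a = 0 := fun a ha => by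
          rw [IsScalarTower.algebraMap_apply A A' k', Ideal.Quotient.algebraMap_eq, Ideal.Quotient.eq_zero_iff_mem]
          exact map_nonunit (algebraMap A A') a ha
        have h6 := ((hP k' hk (sb σ) r hr hr0).map ψ).eq_zero
        rw [hσψ, Ideal.algebraMap_residueField_eq_zero] at h6
        exact ht h6
      have hUN : maximalIdeal R ^ N • (⊤ : Submodule R (LocalizedModule q.primeCompl M)) ≤
          ((J ⊔ q ^ N).map (algebraMap B R)) • (⊤ : Submodule R (LocalizedModule q.primeCompl M)) := by
        rw [← Localization.AtPrime.map_eq_maximalIdeal, ← Ideal.map_pow]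
        exact Submodule.smul_mono (Ideal.map_mono le_sup_right) le_rfl
      let e0 : U ≃ₗ[B] Mq ⧸ (((J ⊔ q ^ N).map (algebraMap B R)) • (⊤ : Submodule R Mq)).restrictScalars B :=
        Submodule.quotEquivOfEq _ _ (le_antisymm (Submodule.smul_le.2 fun c hc m _ => by
            show c • m ∈ ((J ⊔ q ^ N).map (algebraMap B R)) • (⊤ : Submodule R Mq)
            rw [← algebraMap_smul R c m]
            exact Submodule.smul_mem_smul (Ideal.mem_map_of_mem _ hc) trivial) (by
            intro z hz
            refine Submodule.smul_induction_on (show z ∈ ((J ⊔ q ^ N).map (algebraMap B R)) • (⊤ : Submodule R Mq) from hz)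
              (fun r hr m _ => ?_) fun a c ha hc => add_mem ha hc
            induction hr using Submodule.span_induction generalizing m with
            | mem x hx =>
              obtain ⟨b0, hb0, rfl⟩ := hx
              rw [algebraMap_smul]
              exact Submodule.smul_mem_smul hb0 trivial
            | zero => simp
            | add x y _ _ hx hy => rw [add_smul]; exact add_mem (hx m trivial) (hy m trivial)
            | smul a x _ hx => rw [smul_eq_mul, mul_comm, mul_smul]; exact hx (a • m) trivial))
      let U2 := Mq ⧸ (((J ⊔ q ^ N).map (algebraMap B R)) • (⊤ : Submodule R Mq))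
      let e2 : U ≃ₗ[B] U2 := e0.trans (Submodule.Quotient.restrictScalarsEquiv B _)
      have hA2 : ∀ a ∈ maximalIdeal A, ∀ x : U2, a • x = 0 := fun a ha x => by
        obtain ⟨x, rfl⟩ := e2.surjective x
        rw [← algebraMap_smul B a (e2 x), ← e2.map_smul, algebraMap_smul, hU0 a ha, map_zero]
      have hN2 : maximalIdeal R ^ N • (⊤ : Submodule R U2) = ⊥ := by
        rw [eq_bot_iff, ← Submodule.range_mkQ, ← Submodule.map_top, ← Submodule.map_smul'']
        refine (Submodule.map_mono hUN).trans ?_
        rw [Submodule.mkQ_map_self]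
      have h7 := act_injective R k' σ hreg N U2 hA2 hN2 ((e2.toLinearMap.restrictScalars A).lTensor k' (L z)) (by
        rw [← act_natural k' (e2.toLinearMap.restrictScalars A) (fun c x => e2.map_smul c x), ← hσ,
          hLm _ (hTm t htz), map_zero])
      exact (LinearEquiv.lTensor k' (e2.restrictScalars A)).map_eq_zero_iff.1 h7
  have hLz : L z = ∑ j ∈ s, (Ideal.Quotient.mk (maximalIdeal A') (b j)) ⊗ₜ[A] π (v j) := by
    simp only [z, map_sum, algebraMap_smul, map_smul]
    refine Finset.sum_congr rfl fun j _ => ?_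
    show b j • L ((1 : B') ⊗ₜ[B] π (v j)) = _
    rw [show L ((1 : B') ⊗ₜ[B] π (v j)) = (1 : k') ⊗ₜ[A] π (v j) from by
      show (TensorProduct.AlgebraTensorModule.map _ _) ((Algebra.IsPushout.cancelBaseChange A A' B B' U) _) = _
      rw [Algebra.IsPushout.cancelBaseChange_tmul]; rfl, TensorProduct.smul_tmul', Algebra.smul_def, mul_one]
    rfl
  let coordA : k' →ₗ[A] k := ((e.coord l).restrictScalars A)
  let act : k →ₗ[A] U →ₗ[A] U := Submodule.liftQ (maximalIdeal A) (LinearMap.lsmul A U) fun a ha =>
    LinearMap.ext fun w => hU0 a ha w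
  let F : k' ⊗[A] U →ₗ[A] U := TensorProduct.lift (act.comp coordA)
  have hF := congrArg F (hL0.symm.trans hLz)
  rw [map_zero, map_sum] at hF
  have hterm : ∀ j, F ((Ideal.Quotient.mk (maximalIdeal A') (b j)) ⊗ₜ[A] π (v j)) = β j l • π (v j) := fun j => by
    show act (coordA (Ideal.Quotient.mk _ (b j))) (π (v j)) = _
    rw [show coordA (Ideal.Quotient.mk _ (b j)) = Ideal.Quotient.mk _ (β j l) from (hβ j l).symm]
    rfl
  simp only [hterm] at hF
  refine (Submodule.Quotient.mk_eq_zero _).1 ?_
  rw [hF]
  show Submodule.mkQ _ _ = _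
  rw [show LocalizedModule.mk (∑ j ∈ s, β j l • v j) 1 = LocalizedModule.mkLinearMap q.primeCompl M (∑ j ∈ s, β j l • v j) from rfl]
  exact map_sum (π.restrictScalars A) (fun j => β j l • v j) s |>.trans (Finset.sum_congr rfl fun j _ => map_smul (π.restrictScalars A) _ _)

set_option maxHeartbeats 1000000 in
/-- Flatness modulo an ideal containing a power of the maximal ideal from a family separating that ideal. -/
theorem flat_mod_of_family [IsLocalRing A] [IsNoetherianRing B] [Module.Finite B M]
    (q : Ideal B) [q.IsPrime] (hq : q.comap (algebraMap A B) = maximalIdeal A)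
    (I : Ideal A) (hpow : ∃ n, maximalIdeal A ^ n ≤ I)
    {P : Type u} (A' B' : P → Type u) [∀ i, CommRing (A' i)] [∀ i, IsLocalRing (A' i)] [∀ i, CommRing (B' i)]
    [∀ i, Algebra A (A' i)] [∀ i, Algebra (A' i) (B' i)] [∀ i, Algebra B (B' i)] [∀ i, Algebra A (B' i)]
    [∀ i, IsScalarTower A (A' i) (B' i)] [∀ i, IsScalarTower A B (B' i)]
    [∀ i, Algebra.IsPushout A (A' i) B (B' i)]
    (J : ∀ i, Ideal (A' i)) (hJ : ∀ i, J i ≠ ⊤)
    (hI : ∀ a : A, a ∈ I ↔ ∀ i, algebraMap A (A' i) a ∈ J i)
    (hflat : ∀ i : P, (∀ (Q : Ideal (B' i)) [Q.IsPrime], Q.comap (algebraMap B (B' i)) = q →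
      Q.comap (algebraMap (A' i) (B' i)) = maximalIdeal (A' i) → Module.Flat (A' i) (FlatLocus.Loc B M Q)) ∨
      (PrimaryTensor A B q ∧ ∃ (Q : Ideal (B' i)) (_ : Q.IsPrime), Q.comap (algebraMap B (B' i)) = q ∧
        Q.comap (algebraMap (A' i) (B' i)) = maximalIdeal (A' i) ∧ Module.Flat (A' i) (FlatLocus.Loc B M Q))) :
    Module.Flat (A ⧸ I) ((A ⧸ I) ⊗[A] LocalizedModule q.primeCompl M) := by
  classical
  have hloc : ∀ i, IsLocalHom (algebraMap A (A' i)) := fun i => ⟨fun a ha => by
    by_contra hu
    obtain ⟨n, hn⟩ := hpow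
    have h1 := (hI (a ^ n)).1 (hn (Ideal.pow_mem_pow ((mem_maximalIdeal a).2 hu) n)) i
    exact hJ i (Ideal.eq_top_of_isUnit_mem _ h1 (by rw [map_pow]; exact ha.pow n))⟩
  let Mq := LocalizedModule q.primeCompl M
  let Mb := Mq ⧸ (I • (⊤ : Submodule A Mq))
  suffices hf : Module.Flat (A ⧸ I) Mb from
    Module.Flat.of_linearEquiv ((TensorProduct.quotTensorEquivQuotSMul Mq I).extendScalarsOfSurjective
      (Ideal.Quotient.mk_surjective (I := I)))
  let k := ResidueField A
  let w := Module.Free.chooseBasis k (k ⊗[A] Mq)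
  obtain ⟨v, hv⟩ := (TensorProduct.mk_surjective A Mq k Ideal.Quotient.mk_surjective).comp_left w
  have hv' : ∀ j, (1 : k) ⊗ₜ[A] v j = w j := fun j => congrFun hv j
  -- the basis vectors generate
  have hspan : Submodule.span A (Set.range v) ⊔ I • (⊤ : Submodule A Mq) = ⊤ := by
    have h1 : Submodule.span A (Set.range v) ⊔ maximalIdeal A • (⊤ : Submodule A Mq) = ⊤ := by
      refine eq_top_iff.2 fun m _ => ?_
      obtain ⟨c, hc⟩ : ∃ c : Module.Free.ChooseBasisIndex k (k ⊗[A] Mq) →₀ A,
          (1 : k) ⊗ₜ[A] Finsupp.linearCombination A v c = (1 : k) ⊗ₜ[A] m := by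
        obtain ⟨c, hc⟩ := (Finsupp.mapRange_surjective (IsLocalRing.residue A) (map_zero _) IsLocalRing.residue_surjective)
          (w.repr ((1 : k) ⊗ₜ[A] m))
        refine ⟨c, ?_⟩
        conv_rhs => rw [← w.linearCombination_repr ((1 : k) ⊗ₜ[A] m), ← hc]
        rw [Finsupp.linearCombination_apply, Finsupp.linearCombination_apply, Finsupp.sum_mapRange_index (by simp),
          Finsupp.sum, Finsupp.sum, TensorProduct.tmul_sum]
        refine Finset.sum_congr rfl fun j _ => ?_
        rw [TensorProduct.tmul_smul, hv', ← algebraMap_smul k (c j) (w j)]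
        rfl
      have : m - Finsupp.linearCombination A v c ∈ maximalIdeal A • (⊤ : Submodule A Mq) := by
        refine (LinearMap.ker_tensorProductMk (I := maximalIdeal A) (Q := Mq)).le ?_
        rw [LinearMap.mem_ker, map_sub, sub_eq_zero]
        exact hc.symm
      have hmem : Finsupp.linearCombination A v c ∈ Submodule.span A (Set.range v) := by
        rw [← Finsupp.range_linearCombination]; exact ⟨c, rfl⟩
      simpa using Submodule.add_mem_sup hmem this
    have : ∀ n : ℕ, Submodule.span A (Set.range v) ⊔ maximalIdeal A ^ n • (⊤ : Submodule A Mq) = ⊤ := by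
      intro n
      induction n with
      | zero => simp [Ideal.one_eq_top]
      | succ n ih =>
        refine eq_top_iff.2 ?_
        conv_lhs => rw [← h1]
        refine sup_le le_sup_left ?_
        conv_lhs => rw [← ih, Submodule.smul_sup, ← mul_smul, ← pow_succ']
        exact sup_le_sup_right Submodule.smul_le_right _
    obtain ⟨n, hn⟩ := hpow
    exact eq_top_iff.2 ((this n).ge.trans (sup_le_sup_left (Submodule.smul_mono hn le_rfl) _))
  let π : Mq →ₗ[A] Mb := Submodule.mkQ _
  have hspan' : (⊤ : Submodule (A ⧸ I) Mb) ≤ Submodule.span (A ⧸ I) (Set.range (π ∘ v)) := by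
    rintro y -
    obtain ⟨m, rfl⟩ := Submodule.mkQ_surjective _ y
    obtain ⟨a, ha, b, hb, rfl⟩ := Submodule.mem_sup.1 (hspan.ge (Submodule.mem_top (x := m)))
    rw [map_add, show Submodule.mkQ (I • (⊤ : Submodule A Mq)) b = 0 from (Submodule.Quotient.mk_eq_zero _).2 hb, add_zero]
    have h1 := Submodule.mem_map_of_mem (f := π) ha
    rw [Submodule.map_span, ← Set.range_comp] at h1
    exact Submodule.span_le_restrictScalars A (A ⧸ I) _ h1
  have hind : LinearIndependent (A ⧸ I) (π ∘ v) := by
    rw [linearIndependent_iff']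
    intro s cb hcb
    let c : Module.Free.ChooseBasisIndex k (k ⊗[A] Mq) → A := fun j => Function.surjInv Ideal.Quotient.mk_surjective (cb j)
    have hc' : ∀ j, Ideal.Quotient.mk I (c j) = cb j := fun j => Function.surjInv_eq _ _
    have hc : ∑ j ∈ s, c j • v j ∈ I • (⊤ : Submodule A Mq) := by
      refine (Submodule.Quotient.mk_eq_zero _).1 ?_
      show π _ = 0
      rw [map_sum, ← hcb]
      refine Finset.sum_congr rfl fun j _ => ?_
      rw [map_smul, ← algebraMap_smul (A ⧸ I) (c j) (π (v j)), Ideal.Quotient.algebraMap_eq, hc']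
      rfl
    -- common denominators
    obtain ⟨⟨d, hd⟩, hd'⟩ := IsLocalizedModule.exist_integer_multiples q.primeCompl
      (LocalizedModule.mkLinearMap q.primeCompl M) s v
    choose! m hm using hd'
    have hbij : Function.Bijective (fun z : Mq => d • z) :=
      (Module.End.isUnit_iff _).1 (IsLocalizedModule.map_units (LocalizedModule.mkLinearMap q.primeCompl M) ⟨d, hd⟩)
    have hm' : ∀ j ∈ s, LocalizedModule.mk (m j) 1 = d • v j := fun j hj => hm j hj
    have hsum : ∀ β : Module.Free.ChooseBasisIndex k (k ⊗[A] Mq) → A,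
        LocalizedModule.mkLinearMap q.primeCompl M (∑ j ∈ s, β j • m j) = d • ∑ j ∈ s, β j • v j := fun β => by
      rw [map_sum, Finset.smul_sum]
      refine Finset.sum_congr rfl fun j hj => ?_
      rw [LinearMap.map_smul_of_tower, show LocalizedModule.mkLinearMap q.primeCompl M (m j) = d • v j from hm' j hj, smul_comm]
    obtain ⟨d', hd'', hker⟩ : ∃ d' ∉ q, d' • ∑ j ∈ s, c j • m j ∈ (I.map (algebraMap A B)) • (⊤ : Submodule B M) := by
      refine exists_smul_mem_of_mk_mem _ q _ ?_
      show LocalizedModule.mkLinearMap q.primeCompl M _ ∈ _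
      rw [hsum]
      refine Submodule.smul_mem _ d ?_
      refine Submodule.smul_induction_on hc (fun a ha w _ => ?_) fun a a' ha ha' => add_mem ha ha'
      rw [← algebraMap_smul B a w]
      exact Submodule.smul_mem_smul (Ideal.mem_map_of_mem _ ha) trivial
    intro j hj
    rw [← hc', Ideal.Quotient.eq_zero_iff_mem, hI]
    intro i
    haveI := hloc i
    -- work modulo `J i`
    let A'' := A' i ⧸ J i
    haveI : Nontrivial A'' := Ideal.Quotient.nontrivial_iff.2 (hJ i)
    haveI : IsLocalHom (Ideal.Quotient.mk (J i)) := .of_surjective _ Ideal.Quotient.mk_surjective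
    haveI : IsLocalRing A'' := IsLocalRing.of_surjective' (Ideal.Quotient.mk (J i)) Ideal.Quotient.mk_surjective
    let K := {Q : PrimeSpectrum (B' i) // Q.asIdeal.comap (algebraMap B (B' i)) = q ∧
      Q.asIdeal.comap (algebraMap (A' i) (B' i)) = maximalIdeal (A' i) ∧ Module.Flat (A' i) (FlatLocus.Loc B M Q.asIdeal)}
    let N : K → Type u := fun Q => FlatLocus.Loc B M Q.1.asIdeal
    haveI : ∀ Q : K, Module.Flat (A' i) (N Q) := fun Q => Q.2.2.2
    let φ : ∀ Q : K, (B' i ⊗[B] M) →ₗ[A' i] N Q := fun Q =>
      (LocalizedModule.mkLinearMap Q.1.asIdeal.primeCompl (B' i ⊗[B] M)).restrictScalars (A' i)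
    letI : ∀ Q : K, AddCommGroup (N Q) := fun Q => Module.addCommMonoidToAddCommGroup (A' i)
    let W := (B' i ⊗[B] M) ⧸ (J i • (⊤ : Submodule (A' i) (B' i ⊗[B] M)))
    let N'' : K → Type u := fun Q => N Q ⧸ (J i • (⊤ : Submodule (A' i) (N Q)))
    haveI : ∀ Q : K, Module.Flat A'' (N'' Q) := fun Q =>
      Module.Flat.of_linearEquiv ((TensorProduct.quotTensorEquivQuotSMul (N Q) (J i)).extendScalarsOfSurjective
        (Ideal.Quotient.mk_surjective (I := J i))).symm
    let φ'' : ∀ Q : K, W →ₗ[A''] N'' Q := fun Q =>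
      LinearMap.extendScalarsOfSurjective (Ideal.Quotient.mk_surjective (I := J i))
        (Submodule.mapQ _ _ (φ Q) (Submodule.map_le_iff_le_comap.1 (by
          rw [Submodule.map_smul'']; exact Submodule.smul_mono le_rfl le_top)))
    let x : Module.Free.ChooseBasisIndex k (k ⊗[A] Mq) → W := fun j => Submodule.Quotient.mk ((1 : B' i) ⊗ₜ[B] m j)
    have hφ : ∀ (Q : K) (b : Module.Free.ChooseBasisIndex k (k ⊗[A] Mq) → A' i),
        φ'' Q (∑ j ∈ s, Ideal.Quotient.mk (J i) (b j) • x j) =
          Submodule.Quotient.mk (φ Q (∑ j ∈ s, b j • ((1 : B' i) ⊗ₜ[B] m j))) := fun Q b => by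
      rw [show (∑ j ∈ s, Ideal.Quotient.mk (J i) (b j) • x j) =
        Submodule.Quotient.mk (∑ j ∈ s, b j • ((1 : B' i) ⊗ₜ[B] m j)) from ?_]
      · rfl
      · rw [← Submodule.mkQ_apply, map_sum]
        exact Finset.sum_congr rfl fun j _ => rfl
    rw [← Ideal.Quotient.eq_zero_iff_mem]
    refine eq_zero_of_flat_family N'' φ'' s x (fun bb hb => ?_)
      (fun j => Ideal.Quotient.mk (J i) (algebraMap A (A' i) (c j))) (fun Q => ?_) j hj
    · let b : Module.Free.ChooseBasisIndex k (k ⊗[A] Mq) → A' i := fun j => Function.surjInv Ideal.Quotient.mk_surjective (bb j)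
      have hb' : ∀ j, Ideal.Quotient.mk (J i) (b j) = bb j := fun j => Function.surjInv_eq _ _
      intro j hj
      rw [← hb']
      refine (mem_maximalIdeal _).2 fun hu => ?_
      suffices hbm : b j ∈ maximalIdeal (A' i) from
        (mem_maximalIdeal _).1 hbm ((isUnit_map_iff (Ideal.Quotient.mk (J i)) (b j)).1 hu)
      refine mem_maximalIdeal_of_base_change q hq s m (fun β hβ j hj => ?_) (A' i) (B' i) b
        ((hflat i).imp (fun hfl Q hQ hQq hQm => ?_) (fun ⟨hP, Q, hQ, hQq, hQm, hfl⟩ => ⟨hP, Q, hQ, hQq, hQm, ?_⟩)) j hj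
      · have h1 : ∑ j ∈ s, β j • v j ∈ maximalIdeal A • (⊤ : Submodule A Mq) := by
          have h2 : LocalizedModule.mkLinearMap q.primeCompl M (∑ j ∈ s, β j • m j) ∈
              (maximalIdeal A).map (algebraMap A B) • (⊤ : Submodule B Mq) := hβ
          rw [hsum] at h2
          let g : Mq →ₗ[B] Mq := (LinearEquiv.ofBijective (LinearMap.lsmul B Mq d) hbij).symm.toLinearMap
          have h3 := Submodule.mem_map_of_mem (f := g) h2
          rw [show g (d • ∑ j ∈ s, β j • v j) = ∑ j ∈ s, β j • v j from
            (LinearEquiv.ofBijective (LinearMap.lsmul B Mq d) hbij).symm_apply_apply _, Submodule.map_smul''] at h3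
          have h4 := Submodule.smul_mono le_rfl le_top h3
          refine Submodule.smul_induction_on h4 (fun r hr w _ => ?_) fun a a' ha ha' => add_mem ha ha'
          induction hr using Submodule.span_induction generalizing w with
          | mem x hx =>
            obtain ⟨a, ha, rfl⟩ := hx
            rw [algebraMap_smul]
            exact Submodule.smul_mem_smul ha trivial
          | zero => simp
          | add x y _ _ hx hy => rw [add_smul]; exact add_mem (hx w trivial) (hy w trivial)
          | smul r x _ hx => rw [smul_eq_mul, mul_comm, mul_smul]; exact hx (r • w) trivial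
        have h5 : (1 : k) ⊗ₜ[A] (∑ j ∈ s, β j • v j) = 0 :=
          LinearMap.mem_ker.1 ((LinearMap.ker_tensorProductMk (I := maximalIdeal A) (Q := Mq)).ge h1)
        rw [TensorProduct.tmul_sum] at h5
        have h6 : ∑ j ∈ s, (algebraMap A k (β j)) • w j = 0 := by
          rw [← h5]
          refine Finset.sum_congr rfl fun j _ => ?_
          rw [TensorProduct.tmul_smul, hv', algebraMap_smul]
        exact Ideal.Quotient.eq_zero_iff_mem.1 (linearIndependent_iff'.1 w.linearIndependent s _ h6 j hj)
      all_goals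
        suffices key : ∀ Q0 : K, LocalizedModule.mk (∑ j ∈ s, algebraMap (A' i) (B' i) (b j) • ((1 : B' i) ⊗ₜ[B] m j)) 1 ∈
            ((maximalIdeal (A' i)).map (algebraMap (A' i) (B' i))) • (⊤ : Submodule (B' i) (N Q0)) by
          first
            | exact key ⟨⟨Q, hQ⟩, hQq, hQm, hfl Q hQq hQm⟩
            | exact key ⟨⟨Q, hQ⟩, hQq, hQm, hfl⟩
        intro Q0
        have h1 := hb Q0
        rw [show (∑ j ∈ s, bb j • x j) = ∑ j ∈ s, Ideal.Quotient.mk (J i) (b j) • x j by simp only [hb'], hφ] at h1
        simp only [algebraMap_smul]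
        refine (show ∀ z : N Q0, z ∈ maximalIdeal (A' i) • (⊤ : Submodule (A' i) (N Q0)) →
          z ∈ ((maximalIdeal (A' i)).map (algebraMap (A' i) (B' i))) • (⊤ : Submodule (B' i) (N Q0)) from fun z hz => ?_) _ ?_
        · refine Submodule.smul_induction_on hz (fun a ha w _ => ?_) fun a a' ha ha' => add_mem ha ha'
          rw [← algebraMap_smul (B' i) a w]
          exact Submodule.smul_mem_smul (Ideal.mem_map_of_mem _ ha) trivial
        · have h2 : ∀ z : N'' Q0, z ∈ maximalIdeal A'' • (⊤ : Submodule A'' (N'' Q0)) →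
              ∃ z' : N Q0, z' ∈ maximalIdeal (A' i) • (⊤ : Submodule (A' i) (N Q0)) ∧ Submodule.Quotient.mk z' = z := by
            intro z hz
            refine Submodule.smul_induction_on hz (fun a ha w _ => ?_) ?_
            · obtain ⟨w, rfl⟩ := Submodule.mkQ_surjective _ w
              obtain ⟨a, rfl⟩ := Ideal.Quotient.mk_surjective a
              refine ⟨a • w, Submodule.smul_mem_smul ((mem_maximalIdeal a).2 fun hu => ?_) trivial, rfl⟩
              exact (mem_maximalIdeal _).1 ha (hu.map _)
            · rintro _ _ ⟨a, ha, rfl⟩ ⟨a', ha', rfl⟩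
              exact ⟨a + a', add_mem ha ha', rfl⟩
          obtain ⟨z', hz', he⟩ := h2 _ h1
          have h3 : J i • (⊤ : Submodule (A' i) (N Q0)) ≤ maximalIdeal (A' i) • ⊤ :=
            Submodule.smul_mono (IsLocalRing.le_maximalIdeal (hJ i)) le_rfl
          exact (Submodule.sub_mem_iff_right _ hz').1 (h3 ((Submodule.Quotient.eq _).1 he))
    · rw [hφ, Submodule.Quotient.mk_eq_zero]
      have : (∑ j ∈ s, algebraMap A (A' i) (c j) • ((1 : B' i) ⊗ₜ[B] m j)) = (1 : B' i) ⊗ₜ[B] ∑ j ∈ s, c j • m j := by
        rw [TensorProduct.tmul_sum]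
        refine Finset.sum_congr rfl fun j _ => ?_
        rw [algebraMap_smul, ← algebraMap_smul B (c j) (m j), TensorProduct.tmul_smul, algebraMap_smul]
      rw [this]
      let S0 : Submodule (A' i) (N Q) := J i • ⊤
      have hstab : ∀ (g : N Q →ₗ[A' i] N Q) (z : N Q), z ∈ S0 → g z ∈ S0 := fun g z hz =>
        Submodule.smul_mono le_rfl le_top ((Submodule.map_smul'' _ _ g).le (Submodule.mem_map_of_mem hz))
      have hmem : ∀ y ∈ (I.map (algebraMap A B)) • (⊤ : Submodule B M), φ Q ((1 : B' i) ⊗ₜ[B] y) ∈ S0 := by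
        intro y hy
        refine Submodule.smul_induction_on hy (fun r hr w _ => ?_)
          fun a a' ha ha' => by rw [TensorProduct.tmul_add, map_add]; exact add_mem ha ha'
        induction hr using Submodule.span_induction generalizing w with
        | mem r hr =>
          obtain ⟨a, ha, rfl⟩ := hr
          rw [algebraMap_smul, ← algebraMap_smul B a w, TensorProduct.tmul_smul, algebraMap_smul,
            ← algebraMap_smul (A' i) a, map_smul]
          exact Submodule.smul_mem_smul ((hI a).1 ha i) trivial
        | zero => simp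
        | add r r' _ _ hr hr' => rw [add_smul, TensorProduct.tmul_add, map_add]; exact add_mem (hr w trivial) (hr' w trivial)
        | smul r r' _ hr => rw [smul_eq_mul, mul_comm, mul_smul]; exact hr (r • w) trivial
      have h1 := hmem _ hker
      have hu := (Module.End.isUnit_iff _).1 (IsLocalizedModule.map_units
        (LocalizedModule.mkLinearMap Q.1.asIdeal.primeCompl (B' i ⊗[B] M)) ⟨algebraMap B (B' i) d',
          show algebraMap B (B' i) d' ∈ Q.1.asIdeal.primeCompl from fun h => hd'' (Q.2.1.le (Ideal.mem_comap.2 h))⟩)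
      let g : N Q →ₗ[A' i] N Q := (LinearEquiv.ofBijective _ hu).symm.toLinearMap.restrictScalars (A' i)
      have h2 := hstab g _ h1
      have h3 : φ Q ((1 : B' i) ⊗ₜ[B] (d' • ∑ j ∈ s, c j • m j)) =
          algebraMap B (B' i) d' • φ Q ((1 : B' i) ⊗ₜ[B] ∑ j ∈ s, c j • m j) := by
        rw [TensorProduct.tmul_smul, ← algebraMap_smul (B' i) d']
        exact map_smul (LocalizedModule.mkLinearMap Q.1.asIdeal.primeCompl (B' i ⊗[B] M)) _ _
      rw [h3] at h2
      rw [show g (algebraMap B (B' i) d' • φ Q ((1 : B' i) ⊗ₜ[B] ∑ j ∈ s, c j • m j)) = φ Q ((1 : B' i) ⊗ₜ[B] ∑ j ∈ s, c j • m j) from (LinearEquiv.ofBijective _ hu).symm_apply_apply _] at h2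
      exact h2
  haveI : Module.Free (A ⧸ I) Mb := Module.Free.of_basis (Module.Basis.mk hind hspan')
  exact inferInstance

/-- Flatness over a Noetherian local ring from families separating small ideals. -/
theorem flat_of_families_gen [IsLocalRing A] [IsNoetherianRing A] [IsNoetherianRing B] [Module.Finite B M]
    (q : Ideal B) [q.IsPrime] (hq : q.comap (algebraMap A B) = maximalIdeal A)
    {ι : Type u} (A' B' : ι → Type u) [∀ i, CommRing (A' i)] [∀ i, IsLocalRing (A' i)] [∀ i, CommRing (B' i)]
    [∀ i, Algebra A (A' i)] [∀ i, Algebra (A' i) (B' i)] [∀ i, Algebra B (B' i)] [∀ i, Algebra A (B' i)]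
    [∀ i, IsScalarTower A (A' i) (B' i)] [∀ i, IsScalarTower A B (B' i)]
    [∀ i, Algebra.IsPushout A (A' i) B (B' i)]
    (hsep : ∀ N : ℕ, ∃ (P : Type u) (e : P → ι) (J : ∀ p, Ideal (A' (e p))) (I : Ideal A),
      (∀ p, J p ≠ ⊤) ∧ (∀ a, a ∈ I ↔ ∀ p, algebraMap A (A' (e p)) a ∈ J p) ∧
        I ≤ maximalIdeal A ^ N ∧ ∃ n, maximalIdeal A ^ n ≤ I)
    (hflat : ∀ i : ι, (∀ (Q : Ideal (B' i)) [Q.IsPrime], Q.comap (algebraMap B (B' i)) = q →
      Q.comap (algebraMap (A' i) (B' i)) = maximalIdeal (A' i) → Module.Flat (A' i) (FlatLocus.Loc B M Q)) ∨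
      (PrimaryTensor A B q ∧ ∃ (Q : Ideal (B' i)) (_ : Q.IsPrime), Q.comap (algebraMap B (B' i)) = q ∧
        Q.comap (algebraMap (A' i) (B' i)) = maximalIdeal (A' i) ∧ Module.Flat (A' i) (FlatLocus.Loc B M Q))) :
    Module.Flat A (LocalizedModule q.primeCompl M) := by
  let R := Localization.AtPrime q
  haveI : IsNoetherianRing R := IsLocalization.isNoetherianRing q.primeCompl R inferInstance
  haveI : Module.Finite R (LocalizedModule q.primeCompl M) :=
    Module.Finite.of_isLocalizedModule q.primeCompl (LocalizedModule.mkLinearMap _ _)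
  have hI : (maximalIdeal A).map (algebraMap A R) ≤ Ideal.jacobson ⊥ := by
    rw [IsScalarTower.algebraMap_eq A B R, ← Ideal.map_map]
    refine (Ideal.map_mono (Ideal.map_le_iff_le_comap.2 hq.ge)).trans ?_
    rw [Localization.AtPrime.map_eq_maximalIdeal]
    exact IsLocalRing.maximalIdeal_le_jacobson _
  refine FlatCrit.flat_of_lTensor_injective_mod_pow (S := R) hI fun N N' => ?_
  obtain ⟨P, e, J, I, hJ, hIJ, hIN, hpow⟩ := hsep N
  haveI := flat_mod_of_family (M := M) q hq I hpow (fun p => A' (e p)) (fun p => B' (e p)) J hJ hIJ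
    (fun p => hflat (e p))
  letI : Algebra (A ⧸ I) (A ⧸ maximalIdeal A ^ N) := (Ideal.Quotient.factor hIN).toAlgebra
  haveI : IsScalarTower A (A ⧸ I) (A ⧸ maximalIdeal A ^ N) := .of_algebraMap_eq fun _ => rfl
  let N0 : Submodule (A ⧸ I) (A ⧸ maximalIdeal A ^ N) :=
    { N'.toAddSubmonoid with
      smul_mem' := fun c x hx => by
        obtain ⟨c, rfl⟩ := Ideal.Quotient.mk_surjective c
        rw [← Ideal.Quotient.algebraMap_eq, algebraMap_smul]
        exact N'.smul_mem c hx }
  exact FlatCrit.lTensor_injective_of_flat_baseChange (A ⧸ I) N0.subtype Subtype.val_injective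

/-- Flatness over a Noetherian local ring from families separating small ideals. -/
theorem flat_of_families [IsLocalRing A] [IsNoetherianRing A] [IsNoetherianRing B] [Module.Finite B M]
    (q : Ideal B) [q.IsPrime] (hq : q.comap (algebraMap A B) = maximalIdeal A)
    {ι : Type u} (A' B' : ι → Type u) [∀ i, CommRing (A' i)] [∀ i, IsLocalRing (A' i)] [∀ i, CommRing (B' i)]
    [∀ i, Algebra A (A' i)] [∀ i, Algebra (A' i) (B' i)] [∀ i, Algebra B (B' i)] [∀ i, Algebra A (B' i)]
    [∀ i, IsScalarTower A (A' i) (B' i)] [∀ i, IsScalarTower A B (B' i)]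
    [∀ i, Algebra.IsPushout A (A' i) B (B' i)]
    (hsep : ∀ N : ℕ, ∃ (P : Type u) (e : P → ι) (J : ∀ p, Ideal (A' (e p))) (I : Ideal A),
      (∀ p, J p ≠ ⊤) ∧ (∀ a, a ∈ I ↔ ∀ p, algebraMap A (A' (e p)) a ∈ J p) ∧
        I ≤ maximalIdeal A ^ N ∧ ∃ n, maximalIdeal A ^ n ≤ I)
    (hflat : ∀ (i : ι) (Q : Ideal (B' i)) [Q.IsPrime], Q.comap (algebraMap B (B' i)) = q →
      Q.comap (algebraMap (A' i) (B' i)) = maximalIdeal (A' i) → Module.Flat (A' i) (FlatLocus.Loc B M Q)) :
    Module.Flat A (LocalizedModule q.primeCompl M) :=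
  flat_of_families_gen q hq A' B' hsep fun i => Or.inl (hflat i)

end Groth.Agent.FlatFamily
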