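import Mathlib

/-!
Separating families made of the localizations at the maximal ideals.
-/

set_option autoImplicit false
set_option linter.all false
noncomputable section

universe u

open IsLocalRing

namespace Groth.Agent.FlatFamily

theorem hsep_maximals {R S : Type u} [CommRing R] [IsLocalRing R] [CommRing S] [Algebra R S]
    (h : ∀ N : ℕ, ∃ b : Ideal S, (∀ M : Ideal S, M.IsMaximal → b ≤ M) ∧
      b.comap (algebraMap R S) ≤ maximalIdeal R ^ N ∧ ∃ n, maximalIdeal R ^ n ≤ b.comap (algebraMap R S)) (N : ℕ) :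
    ∃ (P : Type u) (e : P → MaximalSpectrum S) (J : ∀ p, Ideal (Localization.AtPrime (e p).asIdeal)) (I : Ideal R),
      (∀ p, J p ≠ ⊤) ∧
      (∀ a, a ∈ I ↔ ∀ p, algebraMap S (Localization.AtPrime (e p).asIdeal) (algebraMap R S a) ∈ J p) ∧
        I ≤ maximalIdeal R ^ N ∧ ∃ n, maximalIdeal R ^ n ≤ I := by
  obtain ⟨b, hb, hle, hn⟩ := h N
  refine ⟨MaximalSpectrum S, id, fun p => b.map (algebraMap S (Localization.AtPrime p.asIdeal)),
    b.comap (algebraMap R S), fun p hp => ?_, fun a => ⟨fun ha p => Ideal.mem_map_of_mem _ ha, fun ha => ?_⟩, hle, hn⟩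
  · have := hp.ge.trans (Ideal.map_mono (hb _ p.isMaximal))
    replace this := this.trans_eq Localization.AtPrime.map_eq_maximalIdeal
    exact (maximalIdeal.isMaximal (Localization.AtPrime p.asIdeal)).ne_top (top_unique this)
  · exact Ideal.mem_comap.2 (Ideal.mem_of_localization_maximal fun P hP => ha ⟨P, hP⟩)

theorem exists_comap_le_of_finite_injective {R S : Type u} [CommRing R] [IsLocalRing R] [IsNoetherianRing R]
    [CommRing S] [Algebra R S] [Module.Finite R S] (hinj : Function.Injective (algebraMap R S)) (N : ℕ) :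
    ∃ b : Ideal S, (∀ M : Ideal S, M.IsMaximal → b ≤ M) ∧
      b.comap (algebraMap R S) ≤ maximalIdeal R ^ N ∧ ∃ n, maximalIdeal R ^ n ≤ b.comap (algebraMap R S) := by
  obtain ⟨k, hk⟩ := (maximalIdeal R).exists_pow_inf_eq_pow_smul (LinearMap.range (Algebra.linearMap R S))
  refine ⟨(maximalIdeal R ^ (N + k + 1)).map (algebraMap R S), fun M hM => ?_, fun a ha => ?_,
    N + k + 1, Ideal.le_comap_map⟩
  · haveI := hM
    refine (Ideal.map_mono (Ideal.pow_le_self (Nat.succ_ne_zero _))).trans (Ideal.map_le_iff_le_comap.2 ?_)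
    haveI := Ideal.isMaximal_comap_of_isIntegral_of_isMaximal (R := R) M
    exact (IsLocalRing.eq_maximalIdeal this).ge
  · rw [Ideal.mem_comap] at ha
    have h1 : algebraMap R S a ∈ (maximalIdeal R ^ (N + k + 1) • (⊤ : Submodule R S)) ⊓ LinearMap.range (Algebra.linearMap R S) := by
      refine ⟨?_, ⟨a, rfl⟩⟩
      rw [Ideal.smul_top_eq_map]
      exact ha
    rw [hk _ (by omega)] at h1
    have h2 : maximalIdeal R ^ (N + k + 1 - k) • (maximalIdeal R ^ k • (⊤ : Submodule R S) ⊓ LinearMap.range (Algebra.linearMap R S)) ≤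
        Submodule.map (Algebra.linearMap R S) (maximalIdeal R ^ N) := by
      refine (Submodule.smul_mono (Ideal.pow_le_pow_right (show N ≤ N + k + 1 - k by omega)) inf_le_right).trans ?_
      rw [LinearMap.range_eq_map, ← Submodule.map_smul'', Ideal.smul_eq_mul, Ideal.mul_top]
    obtain ⟨c, hc, hca⟩ := h2 h1
    rwa [← hinj hca]

end Groth.Agent.FlatFamily
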