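import Groth.Agent.FlatFamily.Basic
import Groth.Agent.FlatStage.Chart
import Groth.Agent.FlatStage.Scheme
import Groth.Agent.FlatOverBC.Scheme
import Groth.Agent.QCohBase.Finite
import Groth.Agent.QCohBase.FiniteTypePullback
import Groth.Prelude.Def_Coh

/-!
Flatness at a point over a local base, read on families of local algebras.
-/

set_option autoImplicit false
set_option backward.isDefEq.respectTransparency false
set_option linter.style.haveILetI false

noncomputable section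

universe u

open CategoryTheory Limits AlgebraicGeometry Opposite TensorProduct IsLocalRing
open Groth.Agent.FlatOver

namespace Groth.Agent.FlatFamily

theorem flat_of_bijective {R' R : Type u} [CommRing R'] [CommRing R] [Algebra R' R]
    (h : Function.Bijective (algebraMap R' R)) (M : Type u) [AddCommMonoid M] [Module R M] [Module R' M]
    [IsScalarTower R' R M] [Module.Flat R M] : Module.Flat R' M := by
  haveI : Module.Flat R' R := Module.Flat.of_linearEquiv (LinearEquiv.ofBijective (Algebra.linearMap R' R) h).symm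
  exact Module.Flat.trans R' R M

theorem fromSpec_comp {A : CommRingCat.{u}} {X : Scheme.{u}} (f : X ⟶ Spec A) {W : X.Opens} (hW : IsAffineOpen W)
    (e : W ≤ f ⁻¹ᵁ ⊤) :
    hW.fromSpec ≫ f = Spec.map ((Scheme.ΓSpecIso A).inv ≫ f.appLE ⊤ W e) := by
  rw [← IsAffineOpen.SpecMap_appLE_fromSpec f (isAffineOpen_top (Spec A)) hW e, IsAffineOpen.fromSpec_top,
    Scheme.isoSpec_Spec_inv, Spec.map_comp]

/-- The residue field of `x` is a primary extension of the residue field of the base point. -/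
abbrev IsPrimaryAt {X Y : Scheme.{u}} (f : X ⟶ Y) (x : X) : Prop :=
  letI := (f.residueFieldMap x).hom.toAlgebra
  ∀ a : ↑(X.residueField x), IsSeparable ↑(Y.residueField (f x)) a → a ∈ (f.residueFieldMap x).hom.range

theorem mem_range_of_isPrimaryAt {A : CommRingCat.{u}} [IsLocalRing A] {X : Scheme.{u}} (f : X ⟶ Spec A)
    {W : X.Opens} (hW : IsAffineOpen W) (e : W ≤ f ⁻¹ᵁ ⊤) (x : X) (hxW : x ∈ W) (hx : f x = closedPoint A)
    (hprim : IsPrimaryAt f x)
    [Algebra A Γ(X, W)] [Algebra (ResidueField A) (hW.primeIdealOf ⟨x, hxW⟩).asIdeal.ResidueField]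
    [IsScalarTower A (ResidueField A) (hW.primeIdealOf ⟨x, hxW⟩).asIdeal.ResidueField]
    (α : (hW.primeIdealOf ⟨x, hxW⟩).asIdeal.ResidueField) (hα : IsSeparable (ResidueField A) α)
    (hA : algebraMap A Γ(X, W) = ((Scheme.ΓSpecIso A).inv ≫ f.appLE ⊤ W e).hom := by rfl) :
    α ∈ Set.range (algebraMap (ResidueField A) (hW.primeIdealOf ⟨x, hxW⟩).asIdeal.ResidueField) := by
  let S := Spec A
  let θc : A ⟶ S.residueField (f x) := (Scheme.ΓSpecIso A).inv ≫ S.presheaf.germ ⊤ (f x) trivial ≫ S.residue (f x)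
  have hs : ∀ (y : ↥(Spec A)), y = closedPoint A → Function.Surjective ((Scheme.ΓSpecIso A).inv ≫ (Spec A).presheaf.germ ⊤ y trivial) := by
    rintro _ rfl
    rw [← ΓSpecIso_hom_stalkClosedPointIso_inv, Iso.inv_hom_id_assoc]
    exact (ConcreteCategory.bijective_of_isIso (stalkClosedPointIso A).inv).2
  have hθ : Function.Surjective θc.hom := fun r => by
    obtain ⟨r, rfl⟩ := Scheme.residue_surjective S (f x) r
    obtain ⟨a, ha⟩ := hs (f x) hx r
    exact ⟨a, congrArg (S.residue (f x)) ha⟩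
  letI := (RingHom.toAlgebra θc.hom : Algebra A (S.residueField (f x)))
  have hker : RingHom.ker θc.hom = maximalIdeal A := IsLocalRing.eq_maximalIdeal (RingHom.ker_isMaximal_of_surjective θc.hom hθ)
  let ε0 : ResidueField A →+* S.residueField (f x) := Ideal.Quotient.lift (maximalIdeal A) θc.hom fun a ha => hker.ge ha
  let εc : Γ(X, W) ⟶ X.residueField x := X.presheaf.germ W x hxW ≫ X.residue x
  let q := (hW.primeIdealOf ⟨x, hxW⟩).asIdeal
  have hq : RingHom.ker εc.hom = q := by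
    rw [show q = ((hW.primeIdealOf ⟨x, hxW⟩)).asIdeal from rfl, hW.primeIdealOf_eq_map_closedPoint]
    exact (RingHom.comap_ker _ _).symm.trans (congrArg _ (IsLocalRing.ker_residue (R := X.presheaf.stalk x)))
  let ε : q.ResidueField →+* X.residueField x := Ideal.ResidueField.lift q εc.hom hq.ge
    fun b hb => IsUnit.mk0 _ fun h0 => hb (hq.le h0)
  have hcomm : (ε.comp (algebraMap (ResidueField A) q.ResidueField)) = (f.residueFieldMap x).hom.comp ε0 := by
    refine Ideal.Quotient.ringHom_ext (RingHom.ext fun a => ?_)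
    show ε (algebraMap (ResidueField A) q.ResidueField (algebraMap A (ResidueField A) a)) = f.residueFieldMap x (θc a)
    rw [← IsScalarTower.algebraMap_apply, IsScalarTower.algebraMap_apply A Γ(X, W) q.ResidueField,
      Ideal.ResidueField.lift_algebraMap, hA]
    have : θc ≫ f.residueFieldMap x = ((Scheme.ΓSpecIso A).inv ≫ f.appLE ⊤ W e) ≫ εc := by
      simp only [θc, εc, Category.assoc, Scheme.Hom.appLE]
      rw [TopCat.Presheaf.germ_res_assoc, Scheme.residue_residueFieldMap, Scheme.Hom.germ_stalkMap_assoc]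
    exact congr($(this.symm).hom a)
  obtain ⟨p, hp, hsep⟩ : ∃ p : Polynomial (ResidueField A), Polynomial.aeval α p = 0 ∧ p.Separable :=
    ⟨minpoly (ResidueField A) α, minpoly.aeval _ _, hα⟩
  letI := (f.residueFieldMap x).hom.toAlgebra
  have hsep' : IsSeparable ↑(S.residueField (f x)) (ε α) := by
    refine (hsep.map (f := ε0)).of_dvd (minpoly.dvd _ _ ?_)
    rw [Polynomial.aeval_def, Polynomial.eval₂_map]
    show Polynomial.eval₂ ((f.residueFieldMap x).hom.comp ε0) (ε α) p = 0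
    rw [← hcomm, ← Polynomial.hom_eval₂, ← Polynomial.aeval_def, hp, map_zero]
  obtain ⟨c, hc⟩ := hprim _ hsep'
  obtain ⟨c, rfl⟩ := hθ c
  refine ⟨Ideal.Quotient.mk _ c, ε.injective ?_⟩
  rw [← hc]
  exact RingHom.congr_fun hcomm (Ideal.Quotient.mk _ c)

theorem isFlatOverAt_of_families_gen {A : CommRingCat.{u}} [IsLocalRing A] [IsNoetherianRing A] {X : Scheme.{u}}
    (f : X ⟶ Spec A) [LocallyOfFiniteType f] (F : X.Modules) (hF : Coh.IsCoh F) (x : X)
    (hx : f x = closedPoint A) {ι : Type u} (A' : ι → CommRingCat.{u}) [∀ i, IsLocalRing (A' i)]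
    (u : ∀ i, A ⟶ A' i)
    (hsep : ∀ N : ℕ, ∃ (P : Type u) (e : P → ι) (J : ∀ p, Ideal (A' (e p))) (I : Ideal A),
      (∀ p, J p ≠ ⊤) ∧ (∀ a, a ∈ I ↔ ∀ p, u (e p) a ∈ J p) ∧
        I ≤ maximalIdeal A ^ N ∧ ∃ n, maximalIdeal A ^ n ≤ I)
    (hflat : ∀ i : ι, (∀ x' : ↥(pullback f (Spec.map (u i))),
      pullback.fst f (Spec.map (u i)) x' = x →
      pullback.snd f (Spec.map (u i)) x' = closedPoint (A' i) →
      FlatMod.IsFlatOverAt (pullback.snd f (Spec.map (u i)))
        ((Scheme.Modules.pullback (pullback.fst f (Spec.map (u i)))).obj F) x') ∨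
      (IsPrimaryAt f x ∧ ∃ x' : ↥(pullback f (Spec.map (u i))),
        pullback.fst f (Spec.map (u i)) x' = x ∧
        pullback.snd f (Spec.map (u i)) x' = closedPoint (A' i) ∧
        FlatMod.IsFlatOverAt (pullback.snd f (Spec.map (u i)))
          ((Scheme.Modules.pullback (pullback.fst f (Spec.map (u i)))).obj F) x')) :
    FlatMod.IsFlatOverAt f F x := by
  haveI : F.IsQuasicoherent := hF.1
  haveI : IsLocallyNoetherian X := LocallyOfFiniteType.isLocallyNoetherian f
  let S := Spec A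
  let V : S.Opens := ⊤
  have hV : IsAffineOpen V := isAffineOpen_top _
  obtain ⟨W, hW, hxW, e⟩ := exists_isAffineOpen_mem_and_subset (x := x) (U := f ⁻¹ᵁ V) trivial
  let B := Γ(X, W)
  haveI : IsNoetherianRing B := IsLocallyNoetherian.component_noetherian ⟨W, hW⟩
  let M := Γ(F, W)
  haveI : Module.Finite B M := QCohBase.finite_sections F hF.2 hW
  let φ : A ⟶ Γ(X, W) := (Scheme.ΓSpecIso A).inv ≫ f.appLE V W e
  letI : Algebra A B := φ.hom.toAlgebra
  letI : Module A M := Module.compHom _ φ.hom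
  haveI : IsScalarTower A B M := .of_algebraMap_smul fun _ _ => rfl
  let q := (hW.primeIdealOf ⟨x, hxW⟩).asIdeal
  have hpt : ∀ p : ↥(Spec Γ(X, W)), f (hW.fromSpec p) = PrimeSpectrum.comap φ.hom p := fun p => by
    rw [← Scheme.Hom.comp_apply, fromSpec_comp f hW e]; rfl
  have hq : q.comap (algebraMap A B) = maximalIdeal A := by
    have h1 := hpt (hW.primeIdealOf ⟨x, hxW⟩)
    rw [hW.fromSpec_primeIdealOf, hx] at h1
    exact (congrArg PrimeSpectrum.asIdeal h1).symm
  suffices h : Module.Flat A (LocalizedModule q.primeCompl M) by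
    rw [FlatOverBC.isFlatOverAt_iff_localized f F e hW hV x hxW]
    letI : Algebra Γ(S, V) Γ(X, W) := (f.appLE V W e).hom.toAlgebra
    letI := baseModule f F e
    haveI : IsScalarTower Γ(S, V) Γ(X, W) Γ(F, W) := .of_algebraMap_smul fun _ _ ↦ rfl
    letI : Algebra Γ(S, V) A := (Scheme.ΓSpecIso A).hom.hom.toAlgebra
    haveI : IsScalarTower Γ(S, V) A (LocalizedModule q.primeCompl M) := .of_algebraMap_smul fun r z => by
      refine (algebraMap_smul B ((algebraMap Γ(S, V) A) r) z).symm.trans (Eq.trans ?_ (algebraMap_smul B r z))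
      congr 1
      show ((Scheme.ΓSpecIso A).inv ≫ f.appLE V W e) ((Scheme.ΓSpecIso A).hom r) = (f.appLE V W e) r
      rw [← CommRingCat.comp_apply, Iso.hom_inv_id_assoc]
    exact flat_of_bijective (R := A) (ConcreteCategory.bijective_of_isIso (Scheme.ΓSpecIso A).hom) _
  let X' := fun i => pullback f (Spec.map (u i))
  let pr : ∀ i, X' i ⟶ X := fun i => pullback.fst f (Spec.map (u i))
  let f' : ∀ i, X' i ⟶ Spec (A' i) := fun i => pullback.snd f (Spec.map (u i))
  have hc : ∀ i, IsPullback (pr i) (f' i) f (Spec.map (u i)) := fun i => IsPullback.of_hasPullback _ _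
  haveI : ∀ i, IsAffineHom (pr i) := fun i => FlatStage.isAffineHom_left (hc i)
  let W' : ∀ i, (X' i).Opens := fun i => pr i ⁻¹ᵁ W
  have hW' : ∀ i, IsAffineOpen (W' i) := fun i => hW.preimage (pr i)
  have e' : ∀ i, W' i ≤ f' i ⁻¹ᵁ (Spec.map (u i) ⁻¹ᵁ V) := fun i => FlatStage.preimage_le (hc i) e
  let φ' : ∀ i, A' i ⟶ Γ(X' i, W' i) := fun i => (Scheme.ΓSpecIso (A' i)).inv ≫ (f' i).appLE _ (W' i) (e' i)
  let B' : ι → Type u := fun i => Γ(X' i, W' i)
  letI : ∀ i, CommRing (B' i) := fun i => inferInstanceAs (CommRing Γ(X' i, W' i))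
  letI : ∀ i, Algebra A (A' i) := fun i => (u i).hom.toAlgebra
  letI : ∀ i, Algebra B (B' i) := fun i => ((pr i).app W).hom.toAlgebra
  letI : ∀ i, Algebra (A' i) (B' i) := fun i => (φ' i).hom.toAlgebra
  letI : ∀ i, Algebra A (B' i) := fun i => (u i ≫ φ' i).hom.toAlgebra
  have hp : ∀ i, IsPushout φ (u i) ((pr i).app W) (φ' i) := fun i => by
    refine (FlatStage.isPushout_chart (hc i) hW hV e).of_iso (Scheme.ΓSpecIso A) (Iso.refl _)
      (Scheme.ΓSpecIso (A' i)) (Iso.refl _) ?_ ?_ ?_ ?_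
    · simp [φ, V, S]
    · exact Scheme.ΓSpecIso_naturality (u i)
    · simp
    · simp [φ']; rfl
  haveI : ∀ i, IsScalarTower A (A' i) (B' i) := fun i => IsScalarTower.of_algebraMap_eq' rfl
  haveI : ∀ i, IsScalarTower A B (B' i) := fun i =>
    IsScalarTower.of_algebraMap_eq' (congrArg CommRingCat.Hom.hom (hp i).w.symm)
  haveI : ∀ i, Algebra.IsPushout A (A' i) B (B' i) := fun i =>
    CommRingCat.isPushout_iff_isPushout.mp (hp i).flip
  have hfl : ∀ (i : ι) (x' : X' i) (hx' : x' ∈ W' i) (Q : Ideal (B' i)) [Q.IsPrime],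
      ((hW' i).primeIdealOf ⟨x', hx'⟩).asIdeal = Q →
      FlatMod.IsFlatOverAt (f' i) ((Scheme.Modules.pullback (pr i)).obj F) x' →
      Module.Flat (A' i) (FlatLocus.Loc B M Q) := by
    intro i x' hx' Q hQ hprime hfx
    subst hprime
    have h3 := (FlatStage.isFlatOverAt_pullback_iff (hc i) F hW hV e (hW' i) x' hx').1 hfx
    letI : Algebra Γ(Spec (A' i), Spec.map (u i) ⁻¹ᵁ V) (B' i) := ((f' i).appLE _ (W' i) (e' i)).hom.toAlgebra
    letI : Algebra (A' i) Γ(Spec (A' i), Spec.map (u i) ⁻¹ᵁ V) := (Scheme.ΓSpecIso (A' i)).inv.hom.toAlgebra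
    haveI : IsScalarTower (A' i) Γ(Spec (A' i), Spec.map (u i) ⁻¹ᵁ V) (FlatLocus.Loc B M ((hW' i).primeIdealOf ⟨x', hx'⟩).asIdeal) :=
      .of_algebraMap_smul fun r z => by
        rw [← algebraMap_smul (B' i) r z, ← algebraMap_smul (B' i) ((algebraMap (A' i) Γ(Spec (A' i), Spec.map (u i) ⁻¹ᵁ V)) r) z]
        rfl
    haveI := h3
    exact flat_of_bijective (R := Γ(Spec (A' i), Spec.map (u i) ⁻¹ᵁ V))
      (ConcreteCategory.bijective_of_isIso (Scheme.ΓSpecIso (A' i)).inv) _
  refine flat_of_families_gen q hq (fun i => (A' i : Type u)) B' hsep fun i => ?_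
  rcases hflat i with hflat | ⟨hprim, x', hx1, hx2, hfx⟩
  · left
    intro Q hQ hQq hQm
    let p : ↥(Spec Γ(X' i, W' i)) := ⟨Q, hQ⟩
    let x' := (hW' i).fromSpec p
    have hx' : x' ∈ W' i := (hW' i).range_fromSpec.le ⟨p, rfl⟩
    have hprime : (hW' i).primeIdealOf ⟨x', hx'⟩ = p :=
      (hW' i).fromSpec.isOpenEmbedding.injective ((hW' i).fromSpec_primeIdealOf _)
    have h1 : pr i x' = x := by
      rw [show pr i x' = ((hW' i).fromSpec ≫ pr i) p from rfl,
        ← IsAffineOpen.SpecMap_appLE_fromSpec (pr i) hW (hW' i) le_rfl, Scheme.Hom.comp_apply]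
      refine (congrArg hW.fromSpec (PrimeSpectrum.ext ?_)).trans (hW.fromSpec_primeIdealOf ⟨x, hxW⟩)
      rw [← Scheme.Hom.app_eq_appLE]
      exact hQq
    have h2 : f' i x' = closedPoint (A' i) := by
      rw [show f' i x' = ((hW' i).fromSpec ≫ f' i) p from rfl, fromSpec_comp (f' i) (hW' i) (e' i)]
      exact PrimeSpectrum.ext hQm
    exact hfl i x' hx' Q (congrArg PrimeSpectrum.asIdeal hprime) (hflat x' h1 h2)
  · right
    have hx' : x' ∈ W' i := show pr i x' ∈ W from hx1.symm ▸ hxW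
    refine ⟨?_, ((hW' i).primeIdealOf ⟨x', hx'⟩).asIdeal, inferInstance, ?_, ?_, hfl i x' hx' _ rfl hfx⟩
    · letI : Algebra (ResidueField A) q.ResidueField :=
        (Ideal.Quotient.lift (maximalIdeal A) (algebraMap A q.ResidueField) fun a ha => by
          rw [IsScalarTower.algebraMap_apply A B q.ResidueField, Ideal.algebraMap_residueField_eq_zero]
          exact hq.ge ha).toAlgebra
      haveI : IsScalarTower A (ResidueField A) q.ResidueField := .of_algebraMap_eq fun a => rfl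
      refine tensorRegular (K := q.ResidueField) fun α hα => ?_
      exact mem_range_of_isPrimaryAt f hW e x hxW hx hprim α hα
    · have := IsAffineOpen.comap_primeIdealOf_appLE (f := pr i) W hW (W' i) (hW' i) le_rfl hx'
      rw [← Scheme.Hom.app_eq_appLE] at this
      refine (congrArg PrimeSpectrum.asIdeal this).trans ?_
      exact congrArg PrimeSpectrum.asIdeal (congrArg hW.primeIdealOf (Subtype.ext hx1))
    · have h1 : f' i x' = PrimeSpectrum.comap (φ' i).hom ((hW' i).primeIdealOf ⟨x', hx'⟩) := by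
        rw [show f' i x' = ((hW' i).fromSpec ≫ f' i) ((hW' i).primeIdealOf ⟨x', hx'⟩) by
          rw [Scheme.Hom.comp_apply, (hW' i).fromSpec_primeIdealOf], fromSpec_comp (f' i) (hW' i) (e' i)]
        rfl
      rw [show f' i x' = closedPoint (A' i) from hx2] at h1
      exact (congrArg PrimeSpectrum.asIdeal h1).symm

end Groth.Agent.FlatFamily

namespace Groth.Agent.FlatFamily

/-- Flatness of a base change passes to a further base change. -/
theorem isFlatOverAt_pullback_of_comp {X S S₀ T : Scheme.{u}} (f : X ⟶ S) (g₀ : S₀ ⟶ S) (j : T ⟶ S₀) (g : T ⟶ S)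
    (hg : j ≫ g₀ = g) (F : X.Modules) (x' : ↥(pullback f g))
    (h : ∀ y : ↥(pullback f g₀), pullback.fst f g₀ y = pullback.fst f g x' →
      pullback.snd f g₀ y = j (pullback.snd f g x') →
      FlatMod.IsFlatOverAt (pullback.snd f g₀) ((Scheme.Modules.pullback (pullback.fst f g₀)).obj F) y) :
    FlatMod.IsFlatOverAt (pullback.snd f g) ((Scheme.Modules.pullback (pullback.fst f g)).obj F) x' := by
  subst hg
  let v : pullback f (j ≫ g₀) ⟶ pullback f g₀ :=
    pullback.lift (pullback.fst f _) (pullback.snd f _ ≫ j) (by rw [Category.assoc, pullback.condition])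
  have hv : IsPullback v (pullback.snd f (j ≫ g₀)) (pullback.snd f g₀) j := by
    refine IsPullback.of_right ?_ (pullback.lift_snd _ _ _) (IsPullback.of_hasPullback f g₀)
    rw [pullback.lift_fst]
    exact IsPullback.of_hasPullback f (j ≫ g₀)
  have h1 := FlatOverBC.isFlatOverAt_baseChange hv ((Scheme.Modules.pullback (pullback.fst f g₀)).obj F) x'
    (h (v x') (by rw [← Scheme.Hom.comp_apply, pullback.lift_fst])
      (by rw [← Scheme.Hom.comp_apply, pullback.lift_snd, Scheme.Hom.comp_apply]))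
  exact FlatStage.isFlatOverAt_congr_iso _ ((Scheme.Modules.pullbackComp v (pullback.fst f g₀)).app F ≪≫
    (Scheme.Modules.pullbackCongr (pullback.lift_fst _ _ _)).app F) x' h1

/-- Every point of the spectrum of an Artinian local ring is the closed point. -/
theorem eq_closedPoint {A : Type u} [CommRing A] [IsLocalRing A] [IsArtinianRing A] (p : PrimeSpectrum A) :
    p = closedPoint A :=
  PrimeSpectrum.ext (IsLocalRing.eq_maximalIdeal inferInstance)

theorem hsep_artinian {A : Type u} [CommRing A] [IsLocalRing A] [IsArtinianRing A] {ι : Type u}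
    (A' : ι → Type u) [∀ i, CommRing (A' i)] [∀ i, Nontrivial (A' i)] (u : ∀ i, A →+* A' i)
    (hu : ∀ a : A, (∀ i, u i a = 0) → a = 0) (N : ℕ) :
    ∃ (P : Type u) (e : P → ι) (J : ∀ p, Ideal (A' (e p))) (I : Ideal A),
      (∀ p, J p ≠ ⊤) ∧ (∀ a, a ∈ I ↔ ∀ p, u (e p) a ∈ J p) ∧
        I ≤ maximalIdeal A ^ N ∧ ∃ n, maximalIdeal A ^ n ≤ I := by
  refine ⟨ι, id, fun _ => ⊥, ⊥, fun p => bot_ne_top, fun a => ⟨fun h p => ?_, fun h => ?_⟩, bot_le, ?_⟩
  · rw [Ideal.mem_bot] at h
    show u p a ∈ (⊥ : Ideal (A' p))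
    rw [h, map_zero]; exact zero_mem _
  · exact Ideal.mem_bot.2 (hu a fun i => Ideal.mem_bot.1 (h i))
  · obtain ⟨n, hn⟩ := IsArtinianRing.isNilpotent_jacobson_bot (R := A)
    rw [IsLocalRing.jacobson_eq_maximalIdeal ⊥ bot_ne_top] at hn
    exact ⟨n, hn.le⟩

end Groth.Agent.FlatFamily

namespace Groth.Agent.FlatFamily

theorem residueFieldMap_bijective {X Y : Scheme.{u}} (f : X ⟶ Y) [IsPreimmersion f] (x : X) :
    Function.Bijective (f.residueFieldMap x).hom := by
  refine ⟨(f.residueFieldMap x).hom.injective, fun r => ?_⟩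
  obtain ⟨r, rfl⟩ := Scheme.residue_surjective X x r
  obtain ⟨s, rfl⟩ := f.stalkMap_surjective x r
  exact ⟨Y.residue (f x) s, congr($(Scheme.residue_residueFieldMap f x).hom s)⟩

/-- A primary extension of fields, in terms of a homomorphism. -/
def IsPrimaryHom {k K : Type u} [Field k] [Field K] (φ : k →+* K) : Prop :=
  ∀ a : K, (∃ P : Polynomial k, P.eval₂ φ a = 0 ∧ P.Separable) → a ∈ φ.range

theorem isPrimaryHom_iff {X Y : Scheme.{u}} (f : X ⟶ Y) (x : X) :
    IsPrimaryAt f x ↔ IsPrimaryHom (f.residueFieldMap x).hom := by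
  letI := (f.residueFieldMap x).hom.toAlgebra
  refine ⟨fun h a ⟨P, hP, hs⟩ => h a (hs.of_dvd (minpoly.dvd _ _ hP)), fun h a ha => h a ⟨_, minpoly.aeval _ _, ha⟩⟩

/-- Primality is unchanged by base change to the local ring of the base. -/
theorem isPrimaryAt_pullback_snd {X Y : Scheme.{u}} (f : X ⟶ Y) {x : X}
    {x₀ : ↥(pullback f (Y.fromSpecStalk (f x)))} (h1 : pullback.fst f (Y.fromSpecStalk (f x)) x₀ = x)
    (h : IsPrimaryAt f x) : IsPrimaryAt (pullback.snd f (Y.fromSpecStalk (f x))) x₀ := by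
  let j := Y.fromSpecStalk (f x)
  let p := pullback.fst f j
  let f₀ := pullback.snd f j
  have e0 := residueFieldMap_bijective j (f₀ x₀)
  have e1 := residueFieldMap_bijective p x₀
  replace h := h1.symm ▸ h
  rw [isPrimaryHom_iff] at h ⊢
  have h2 : IsPrimaryHom ((p ≫ f).residueFieldMap x₀).hom := by
    rw [Scheme.residueFieldMap_comp, CommRingCat.hom_comp]
    rintro a ⟨P, hP, hs⟩
    obtain ⟨b, rfl⟩ := e1.2 a
    obtain ⟨c, rfl⟩ := h b ⟨P, e1.1 (by rw [Polynomial.hom_eval₂, hP, map_zero]), hs⟩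
    exact ⟨c, rfl⟩
  rw [show p ≫ f = f₀ ≫ j from pullback.condition] at h2
  rw [Scheme.residueFieldMap_comp, CommRingCat.hom_comp] at h2
  rintro a ⟨P, hP, hs⟩
  let e := RingEquiv.ofBijective _ e0
  obtain ⟨c, hc⟩ := h2 a ⟨P.map e.symm.toRingHom, by
    rw [Polynomial.eval₂_map]
    convert hP using 2
    exact RingHom.ext fun r => congrArg (f₀.residueFieldMap x₀).hom (e.apply_symm_apply r), hs.map⟩
  exact ⟨_, hc⟩

/-- Flatness over a locally Noetherian scheme, read on families of local algebras of the local ring. -/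
theorem isFlatOverAt_of_families_stalk_gen {X Y : Scheme.{u}} [IsLocallyNoetherian Y] (f : X ⟶ Y) [LocallyOfFiniteType f]
    (F : X.Modules) (hF : Coh.IsCoh F) (x : X) {ι : Type u} (A' : ι → CommRingCat.{u}) [∀ i, IsLocalRing (A' i)]
    (u : ∀ i, Y.presheaf.stalk (f x) ⟶ A' i)
    (hsep : ∀ N : ℕ, ∃ (P : Type u) (e : P → ι) (J : ∀ p, Ideal (A' (e p))) (I : Ideal (Y.presheaf.stalk (f x))),
      (∀ p, J p ≠ ⊤) ∧ (∀ a, a ∈ I ↔ ∀ p, u (e p) a ∈ J p) ∧
        I ≤ maximalIdeal (Y.presheaf.stalk (f x)) ^ N ∧ ∃ n, maximalIdeal (Y.presheaf.stalk (f x)) ^ n ≤ I)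
    (hflat : ∀ i : ι, (∀ x' : ↥(pullback f (Spec.map (u i) ≫ Y.fromSpecStalk (f x))),
      pullback.fst f (Spec.map (u i) ≫ Y.fromSpecStalk (f x)) x' = x →
      pullback.snd f (Spec.map (u i) ≫ Y.fromSpecStalk (f x)) x' = closedPoint (A' i) →
      FlatMod.IsFlatOverAt (pullback.snd f (Spec.map (u i) ≫ Y.fromSpecStalk (f x)))
        ((Scheme.Modules.pullback (pullback.fst f (Spec.map (u i) ≫ Y.fromSpecStalk (f x)))).obj F) x') ∨
      (IsPrimaryAt f x ∧ ∃ x' : ↥(pullback f (Spec.map (u i) ≫ Y.fromSpecStalk (f x))),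
      pullback.fst f (Spec.map (u i) ≫ Y.fromSpecStalk (f x)) x' = x ∧
      pullback.snd f (Spec.map (u i) ≫ Y.fromSpecStalk (f x)) x' = closedPoint (A' i) ∧
      FlatMod.IsFlatOverAt (pullback.snd f (Spec.map (u i) ≫ Y.fromSpecStalk (f x)))
        ((Scheme.Modules.pullback (pullback.fst f (Spec.map (u i) ≫ Y.fromSpecStalk (f x)))).obj F) x')) :
    FlatMod.IsFlatOverAt f F x := by
  let j := Y.fromSpecStalk (f x)
  obtain ⟨x₀, h1, h2⟩ := Scheme.Pullback.exists_preimage_pullback (f := f) (g := j) x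
    (closedPoint (Y.presheaf.stalk (f x))) (Scheme.fromSpecStalk_closedPoint).symm
  haveI : F.IsQuasicoherent := hF.1
  have hF₀ : Coh.IsCoh ((Scheme.Modules.pullback (pullback.fst f j)).obj F) :=
    ⟨QCohPull.isQuasicoherent_pullback _ F, QCohBase.isFT_pullback _ hF.2⟩
  haveI : Flat j := FlatMorLib.flat_fromSpecStalk (f x)
  rw [← h1]
  refine FlatOverBC.isFlatOverAt_of_baseChange (IsPullback.of_hasPullback f j) F x₀ (Flat.stalkMap j _) ?_
  refine isFlatOverAt_of_families_gen (pullback.snd f j) _ hF₀ x₀ h2 A' u hsep fun i => ?_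
  let g := Spec.map (u i) ≫ j
  let v : pullback (pullback.snd f j) (Spec.map (u i)) ⟶ pullback f g :=
    pullback.lift (pullback.fst _ _ ≫ pullback.fst f j) (pullback.snd _ _)
      (by rw [Category.assoc, pullback.condition, pullback.condition_assoc])
  haveI : IsIso v := by
    have := ((IsPullback.of_hasPullback (pullback.snd f j) (Spec.map (u i))).paste_horiz (IsPullback.of_hasPullback f j))
    exact ⟨this.lift (pullback.fst f g) (pullback.snd f g) pullback.condition, this.hom_ext (by simp [v]) (by simp [v]),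
      pullback.hom_ext (by simp [v]) (by simp [v])⟩
  have hv : IsPullback v (pullback.snd (pullback.snd f j) (Spec.map (u i))) (pullback.snd f g) (𝟙 _) :=
    IsPullback.of_horiz_isIso ⟨by simp [v]⟩
  have key : ∀ y, FlatMod.IsFlatOverAt (pullback.snd f g) ((Scheme.Modules.pullback (pullback.fst f g)).obj F) (v y) →
      FlatMod.IsFlatOverAt (pullback.snd (pullback.snd f j) (Spec.map (u i)))
        ((Scheme.Modules.pullback (pullback.fst (pullback.snd f j) (Spec.map (u i)))).obj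
          ((Scheme.Modules.pullback (pullback.fst f j)).obj F)) y := fun y h =>
    FlatStage.isFlatOverAt_congr_iso _ ((Scheme.Modules.pullbackComp v (pullback.fst f g)).app F ≪≫
      (Scheme.Modules.pullbackCongr (pullback.lift_fst _ _ _)).app F ≪≫
      (Scheme.Modules.pullbackComp _ _).symm.app F) y
      (FlatOverBC.isFlatOverAt_baseChange hv ((Scheme.Modules.pullback (pullback.fst f g)).obj F) y h)
  have hv1 : ∀ y, pullback.fst f g (v y) = pullback.fst f j (pullback.fst (pullback.snd f j) (Spec.map (u i)) y) :=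
    fun y => by rw [← Scheme.Hom.comp_apply, pullback.lift_fst, Scheme.Hom.comp_apply]
  have hv2 : ∀ y, pullback.snd f g (v y) = pullback.snd (pullback.snd f j) (Spec.map (u i)) y :=
    fun y => by rw [← Scheme.Hom.comp_apply, pullback.lift_snd]
  have hmono : Function.Injective ⇑(pullback.fst f j) :=
    (pullback.fst f j).isEmbedding.injective
  rcases hflat i with h | ⟨hprim, x', hx1, hx2, h⟩
  · exact Or.inl fun y hy1 hy2 => key y (h (v y) (by rw [hv1, hy1, h1]) (by rw [hv2, hy2]))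
  · obtain ⟨y, rfl⟩ : ∃ y, v y = x' := ⟨inv v x', by rw [← Scheme.Hom.comp_apply, IsIso.inv_hom_id]; rfl⟩
    refine Or.inr ⟨isPrimaryAt_pullback_snd f h1 hprim, y, hmono ?_, (hv2 y).symm.trans hx2, key y h⟩
    rw [← hv1, hx1, h1]

theorem hsep_adic {R : Type u} [CommRing R] [IsLocalRing R] {ι : Type u}
    (A : ι → Type u) [∀ i, CommRing (A i)] [∀ i, IsLocalRing (A i)] (φ : ∀ i, R →+* A i) [∀ i, IsLocalHom (φ i)]
    (htop : ∀ N : ℕ, ∃ s : Finset (ι × ℕ),
      ⨅ p ∈ s, Ideal.comap (φ p.1) (maximalIdeal (A p.1) ^ p.2) ≤ maximalIdeal R ^ N) (N : ℕ) :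
    ∃ (P : Type u) (e : P → ι) (J : ∀ p, Ideal (A (e p))) (I : Ideal R),
      (∀ p, J p ≠ ⊤) ∧ (∀ a, a ∈ I ↔ ∀ p, φ (e p) a ∈ J p) ∧
        I ≤ maximalIdeal R ^ N ∧ ∃ n, maximalIdeal R ^ n ≤ I := by
  classical
  obtain ⟨s, hs⟩ := htop N
  let I : Ideal R := ⨅ p ∈ s, Ideal.comap (φ p.1) (maximalIdeal (A p.1) ^ p.2)
  refine ⟨{p : ι × ULift.{u} ℕ // (p.1, p.2.down) ∈ s ∧ p.2.down ≠ 0}, fun p => p.1.1,
    fun p => maximalIdeal (A p.1.1) ^ p.1.2.down, I, fun p h => ?_, fun a => ?_, hs, ⟨s.sup Prod.snd, ?_⟩⟩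
  · exact (maximalIdeal.isMaximal (A p.1.1)).ne_top (top_unique (h.ge.trans (Ideal.pow_le_self p.2.2)))
  · simp only [I, Submodule.mem_iInf, Ideal.mem_comap]
    refine ⟨fun h p => h _ p.2.1, fun h p hp => ?_⟩
    rcases eq_or_ne p.2 0 with h0 | h0
    · simp [h0, Ideal.one_eq_top]
    · exact h ⟨(p.1, ⟨p.2⟩), hp, h0⟩
  · refine le_iInf₂ fun p hp => ?_
    refine (Ideal.pow_le_pow_right (Finset.le_sup (f := Prod.snd) hp)).trans (Ideal.map_le_iff_le_comap.1 ?_)
    rw [Ideal.map_pow]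
    exact Ideal.pow_right_mono (Ideal.map_le_iff_le_comap.2 fun a ha => Ideal.mem_comap.2 (map_nonunit (φ p.1) a ha)) _

end Groth.Agent.FlatFamily

namespace Groth.Agent.FlatFamily

theorem isFlatOverAt_of_families {A : CommRingCat.{u}} [IsLocalRing A] [IsNoetherianRing A] {X : Scheme.{u}}
    (f : X ⟶ Spec A) [LocallyOfFiniteType f] (F : X.Modules) (hF : Coh.IsCoh F) (x : X)
    (hx : f x = closedPoint A) {ι : Type u} (A' : ι → CommRingCat.{u}) [∀ i, IsLocalRing (A' i)]
    (u : ∀ i, A ⟶ A' i)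
    (hsep : ∀ N : ℕ, ∃ (P : Type u) (e : P → ι) (J : ∀ p, Ideal (A' (e p))) (I : Ideal A),
      (∀ p, J p ≠ ⊤) ∧ (∀ a, a ∈ I ↔ ∀ p, u (e p) a ∈ J p) ∧
        I ≤ maximalIdeal A ^ N ∧ ∃ n, maximalIdeal A ^ n ≤ I)
    (hflat : ∀ (i : ι) (x' : ↥(pullback f (Spec.map (u i)))),
      pullback.fst f (Spec.map (u i)) x' = x →
      pullback.snd f (Spec.map (u i)) x' = closedPoint (A' i) →
      FlatMod.IsFlatOverAt (pullback.snd f (Spec.map (u i)))
        ((Scheme.Modules.pullback (pullback.fst f (Spec.map (u i)))).obj F) x') :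
    FlatMod.IsFlatOverAt f F x :=
  isFlatOverAt_of_families_gen f F hF x hx A' u hsep fun i => Or.inl (hflat i)

theorem isFlatOverAt_of_families_stalk {X Y : Scheme.{u}} [IsLocallyNoetherian Y] (f : X ⟶ Y) [LocallyOfFiniteType f]
    (F : X.Modules) (hF : Coh.IsCoh F) (x : X) {ι : Type u} (A' : ι → CommRingCat.{u}) [∀ i, IsLocalRing (A' i)]
    (u : ∀ i, Y.presheaf.stalk (f x) ⟶ A' i)
    (hsep : ∀ N : ℕ, ∃ (P : Type u) (e : P → ι) (J : ∀ p, Ideal (A' (e p))) (I : Ideal (Y.presheaf.stalk (f x))),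
      (∀ p, J p ≠ ⊤) ∧ (∀ a, a ∈ I ↔ ∀ p, u (e p) a ∈ J p) ∧
        I ≤ maximalIdeal (Y.presheaf.stalk (f x)) ^ N ∧ ∃ n, maximalIdeal (Y.presheaf.stalk (f x)) ^ n ≤ I)
    (hflat : ∀ (i : ι) (x' : ↥(pullback f (Spec.map (u i) ≫ Y.fromSpecStalk (f x)))),
      pullback.fst f (Spec.map (u i) ≫ Y.fromSpecStalk (f x)) x' = x →
      pullback.snd f (Spec.map (u i) ≫ Y.fromSpecStalk (f x)) x' = closedPoint (A' i) →
      FlatMod.IsFlatOverAt (pullback.snd f (Spec.map (u i) ≫ Y.fromSpecStalk (f x)))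
        ((Scheme.Modules.pullback (pullback.fst f (Spec.map (u i) ≫ Y.fromSpecStalk (f x)))).obj F) x') :
    FlatMod.IsFlatOverAt f F x :=
  isFlatOverAt_of_families_stalk_gen f F hF x A' u hsep fun i => Or.inl (hflat i)

end Groth.Agent.FlatFamily
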